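import Cfsg.Agent.O83Three.Defs

/-! Evaluation of the certificates for the elements of order three in `PΩ₈⁺(3)`. -/

set_option autoImplicit false
set_option maxRecDepth 100000
set_option Elab.async false

namespace CfsgLib.O83Three

theorem conj_ok : chkConj = true := by decide +kernel

theorem mulQ_0 : allBlock (chkMul 18 mulQ) 0 = true := by decide +kernel

theorem mulQ_1 : allBlock (chkMul 18 mulQ) 1 = true := by decide +kernel

theorem mulQ_2 : allBlock (chkMul 18 mulQ) 2 = true := by decide +kernel

theorem mulQ_3 : allBlock (chkMul 18 mulQ) 3 = true := by decide +kernel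

theorem mulQ_4 : allBlock (chkMul 18 mulQ) 4 = true := by decide +kernel

theorem mulQ_5 : allBlock (chkMul 18 mulQ) 5 = true := by decide +kernel

theorem mulQ_6 : allBlock (chkMul 18 mulQ) 6 = true := by decide +kernel

theorem mulQ_7 : allBlock (chkMul 18 mulQ) 7 = true := by decide +kernel

theorem mulQ_8 : allBlock (chkMul 18 mulQ) 8 = true := by decide +kernel

theorem mid_0 : allBlock (chkMid) 0 = true := by decide +kernel

theorem mid_1 : allBlock (chkMid) 1 = true := by decide +kernel

theorem mid_2 : allBlock (chkMid) 2 = true := by decide +kernel

theorem mid_3 : allBlock (chkMid) 3 = true := by decide +kernel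

theorem mid_4 : allBlock (chkMid) 4 = true := by decide +kernel

theorem mid_5 : allBlock (chkMid) 5 = true := by decide +kernel

theorem mid_6 : allBlock (chkMid) 6 = true := by decide +kernel

theorem mid_7 : allBlock (chkMid) 7 = true := by decide +kernel

theorem mid_8 : allBlock (chkMid) 8 = true := by decide +kernel

theorem stage1_0 : allBlock (chk1) 0 = true := by decide +kernel

theorem stage1_1 : allBlock (chk1) 1 = true := by decide +kernel

theorem stage1_2 : allBlock (chk1) 2 = true := by decide +kernel

theorem stage1_3 : allBlock (chk1) 3 = true := by decide +kernel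

theorem stage1_4 : allBlock (chk1) 4 = true := by decide +kernel

theorem stage1_5 : allBlock (chk1) 5 = true := by decide +kernel

theorem stage1_6 : allBlock (chk1) 6 = true := by decide +kernel

theorem stage1_7 : allBlock (chk1) 7 = true := by decide +kernel

theorem stage1_8 : allBlock (chk1) 8 = true := by decide +kernel

end CfsgLib.O83Three
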