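import Cfsg.Agent.O83Three.Defs

/-! Evaluation of the multiplication table of the Levi part. -/

set_option autoImplicit false
set_option maxRecDepth 100000
set_option Elab.async false

namespace CfsgLib.O83Three

theorem mulL_0 : allBlock (chkMul 12 mulL) 0 = true := by decide +kernel

theorem mulL_1 : allBlock (chkMul 12 mulL) 1 = true := by decide +kernel

theorem mulL_2 : allBlock (chkMul 12 mulL) 2 = true := by decide +kernel

theorem mulL_3 : allBlock (chkMul 12 mulL) 3 = true := by decide +kernel

theorem mulL_4 : allBlock (chkMul 12 mulL) 4 = true := by decide +kernel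

theorem mulL_5 : allBlock (chkMul 12 mulL) 5 = true := by decide +kernel

theorem mulL_6 : allBlock (chkMul 12 mulL) 6 = true := by decide +kernel

theorem mulL_7 : allBlock (chkMul 12 mulL) 7 = true := by decide +kernel

theorem mulL_8 : allBlock (chkMul 12 mulL) 8 = true := by decide +kernel

end CfsgLib.O83Three
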