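import Cfsg.Agent.O83Three.Defs

/-! Evaluation of the second stage above the root 15. -/

set_option autoImplicit false
set_option maxRecDepth 100000

namespace CfsgLib.O83Three

theorem stage2_3_ok : allN (chk2 15 moves3 paths3 stage2_3) 729 = true := by decide +kernel

end CfsgLib.O83Three
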