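import Cfsg.Agent.O83Three.Defs

/-! Evaluation of the second stage above the root 90. -/

set_option autoImplicit false
set_option maxRecDepth 100000

namespace CfsgLib.O83Three

theorem stage2_4_ok : allN (chk2 90 moves4 paths4 stage2_4) 729 = true := by decide +kernel

end CfsgLib.O83Three
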