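import Cfsg.Agent.O83Three.Word
import Cfsg.Agent.O83Three.Checks
import Cfsg.Agent.O83Three.ChecksL
import Cfsg.Agent.O83Three.ChecksS0
import Cfsg.Agent.O83Three.ChecksS1
import Cfsg.Agent.O83Three.ChecksS2
import Cfsg.Agent.O83Three.ChecksS3
import Cfsg.Agent.O83Three.ChecksS4
import Cfsg.Agent.Chev.OrdD4
import Cfsg.Agent.S1061
import Mathlib.GroupTheory.Sylow

/-! Every element of order three of `D₄(3)` is conjugate to a power of one of thirteen elements. -/

set_option autoImplicit false
set_option linter.style.haveILetI false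

namespace CfsgLib.O83Three

open CfsgLib.Chev Cfsg.Lie

local instance : Fact (Nat.Prime 3) := ⟨Nat.prime_three⟩

theorem allN_spec {p : ℕ → Bool} : ∀ {n : ℕ}, allN p n = true → ∀ i < n, p i = true
  | 0, _, i, h => absurd h (Nat.not_lt_zero i)
  | n + 1, e, i, h => by
    simp only [allN, Bool.and_eq_true] at e
    rcases Nat.lt_succ_iff_lt_or_eq.mp h with h | rfl
    · exact allN_spec e.2 i h
    · exact e.1

theorem block_spec {p : ℕ → Bool} (h : ∀ k < 9, allBlock p k = true) : ∀ i < 729, p i = true := by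
  intro i hi
  have := allN_spec (h (i / 81) (by omega)) (i % 81) (Nat.mod_lt _ (by norm_num))
  rwa [Nat.div_add_mod] at this

theorem mulQ_all : ∀ a < 729, chkMul 18 mulQ a = true := block_spec fun k hk =>
  match k, hk with
  | 0, _ => mulQ_0
  | 1, _ => mulQ_1
  | 2, _ => mulQ_2
  | 3, _ => mulQ_3
  | 4, _ => mulQ_4
  | 5, _ => mulQ_5
  | 6, _ => mulQ_6
  | 7, _ => mulQ_7
  | 8, _ => mulQ_8
  | _ + 9, hk => absurd hk (by omega)

theorem mulL_all : ∀ a < 729, chkMul 12 mulL a = true := block_spec fun k hk =>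
  match k, hk with
  | 0, _ => mulL_0
  | 1, _ => mulL_1
  | 2, _ => mulL_2
  | 3, _ => mulL_3
  | 4, _ => mulL_4
  | 5, _ => mulL_5
  | 6, _ => mulL_6
  | 7, _ => mulL_7
  | 8, _ => mulL_8
  | _ + 9, hk => absurd hk (by omega)

theorem mid_all : ∀ a < 729, chkMid a = true := block_spec fun k hk =>
  match k, hk with
  | 0, _ => mid_0
  | 1, _ => mid_1
  | 2, _ => mid_2
  | 3, _ => mid_3
  | 4, _ => mid_4
  | 5, _ => mid_5
  | 6, _ => mid_6
  | 7, _ => mid_7
  | 8, _ => mid_8
  | _ + 9, hk => absurd hk (by omega)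

theorem stage1_all : ∀ a < 729, chk1 a = true := block_spec fun k hk =>
  match k, hk with
  | 0, _ => stage1_0
  | 1, _ => stage1_1
  | 2, _ => stage1_2
  | 3, _ => stage1_3
  | 4, _ => stage1_4
  | 5, _ => stage1_5
  | 6, _ => stage1_6
  | 7, _ => stage1_7
  | 8, _ => stage1_8
  | _ + 9, hk => absurd hk (by omega)

theorem sameB_spec {u v : List ℕ} (h : sameB u v = true) : W u = W v := by
  simp only [sameB, Bool.and_eq_true, Nat.beq_eq] at h
  obtain ⟨⟨⟨hu, hv⟩, h1⟩, h2⟩ := h
  exact W_eq hu hv (Prod.ext h1 h2)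

theorem Wc_iw : ∀ w : List ℕ, okW w = true → Wc (iw w) = (Wc w)⁻¹ := by
  intro w
  induction w with
  | nil => intro _; simp [iw, Wc]
  | cons c w ih =>
    intro h
    have hc := okW_mem h (List.mem_cons_self ..)
    have hw : okW w = true := by
      simp only [okW, List.all_cons, Bool.and_eq_true] at h; exact h.2
    have e : iw (c :: w) = iw w ++ [3 * (c / 3) + (3 - c % 3)] := by simp [iw]
    rw [e, Wc_append, ih hw, show Wc (c :: w) = Wc [c] * Wc w from Wc_append [c] w, mul_inv_rev]
    congr 1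
    let S := good_D4.scData (good_D4.scθ (ZMod 3)) fun r t hr => good_D4.coe_scθ hr t
    have h1 : (3 * (c / 3) + (3 - c % 3)) / 3 = c / 3 := by omega
    have h2 : (3 * (c / 3) + (3 - c % 3)) % 3 = 3 - c % 3 := by omega
    have h3 : ∀ t < 3, t ≠ 0 → ((3 - t : ℕ) : ZMod 3) = -(t : ZMod 3) := by decide
    simp only [Wc, List.map_cons, List.map_nil, List.prod_cons, List.prod_nil, mul_one, h1, h2,
      h3 _ (Nat.mod_lt _ (by norm_num)) hc.2]
    exact (S.xb_inv (show c / 3 < 24 by omega) _).symm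

theorem W_iw {w : List ℕ} (h : okW w = true) : W (iw w) = (W w)⁻¹ := by
  rw [W, Wc_iw w h, map_inv]; rfl

theorem W_conj {g u v : List ℕ} (hg : okW g = true) (h : sameB (g ++ u ++ iw g) v = true) :
    W g * W u * (W g)⁻¹ = W v := by
  rw [← W_iw hg, ← W_append, ← W_append]; exact sameB_spec h

/-- The radical. -/
noncomputable def rad : Subgroup P := Subgroup.closure {x | ∃ s < 6, x = W [3 * (18 + s) + 1]}

theorem gen_pow (r : ℕ) (hr : r < 24) : W [3 * r + 1] * W [3 * r + 1] = W [3 * r + 2] ∧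
    (W [3 * r + 1])⁻¹ = W [3 * r + 2] := by
  have h : ∀ r < 24, sameB ([3 * r + 1] ++ [3 * r + 1]) [3 * r + 2] = true ∧
      okW [3 * r + 1] = true ∧ iw [3 * r + 1] = [3 * r + 2] := by decide +kernel
  obtain ⟨h1, h2, h3⟩ := h r hr
  exact ⟨by rw [← W_append]; exact sameB_spec h1, by rw [← W_iw h2, h3]⟩

theorem mem_table {r : ℕ} {T : List ℕ} (hr : r + 6 ≤ 24)
    (hT : ∀ a < 729, chkMul r T a = true) {a : ℕ} (ha : a < 729) {i : ℕ} (hi : i < 6) :
    ∃ a' < 729, W (digits r a) * W [3 * (r + i) + 1] = W (digits r a') := by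
  have := allN_spec (hT a ha) i hi
  simp only [Bool.and_eq_true, Nat.blt_eq] at this
  exact ⟨_, this.1, by rw [← W_append]; exact sameB_spec this.2⟩

theorem digits_zero (r : ℕ) : digits r 0 = [] := by simp [digits]

theorem mem_rad {x : P} (hx : x ∈ rad) : ∃ b < 729, x = W (qword b) := by
  refine Subgroup.closure_induction_right (p := fun x _ => ∃ b < 729, x = W (qword b)) ?_ ?_ ?_ hx
  · exact ⟨0, by norm_num, by rw [qword, digits_zero, W_nil]⟩
  · rintro y _ _ ⟨s, hs, rfl⟩ ⟨b, hb, rfl⟩
    exact mem_table le_rfl mulQ_all hb hs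
  · rintro y _ _ ⟨s, hs, rfl⟩ ⟨b, hb, rfl⟩
    obtain ⟨b1, hb1, e1⟩ := mem_table le_rfl mulQ_all hb hs
    obtain ⟨b2, hb2, e2⟩ := mem_table le_rfl mulQ_all hb1 hs
    refine ⟨b2, hb2, ?_⟩
    rw [(gen_pow _ (show 18 + s < 24 by omega)).2, ← (gen_pow _ (show 18 + s < 24 by omega)).1,
      ← mul_assoc]
    show W (digits 18 b) * _ * _ = _
    rw [e1]; exact e2

theorem qword_mem (b : ℕ) : W (qword b) ∈ rad := by
  have key : ∀ l : List ℕ, (∀ i ∈ l, i < 6) → W (l.flatMap fun i =>
      bif Nat.beq (b / 3 ^ (5 - i) % 3) 0 then [] else [3 * (18 + i) + b / 3 ^ (5 - i) % 3]) ∈ rad := by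
    intro l
    induction l with
    | nil => intro _; rw [List.flatMap_nil, W_nil]; exact one_mem _
    | cons i l ih =>
      intro h
      rw [List.flatMap_cons, W_append]
      refine mul_mem ?_ (ih fun j hj => h j (List.mem_cons_of_mem _ hj))
      have hi := h i (List.mem_cons_self ..)
      have hg : W [3 * (18 + i) + 1] ∈ rad := Subgroup.subset_closure ⟨i, hi, rfl⟩
      have ht := Nat.mod_lt (b / 3 ^ (5 - i)) (show 3 > 0 by norm_num)
      interval_cases ht' : b / 3 ^ (5 - i) % 3
      · rw [show Nat.beq 0 0 = true from rfl, cond_true, W_nil]; exact one_mem _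
      · exact hg
      · exact (gen_pow _ (show 18 + i < 24 by omega)).1 ▸ mul_mem hg hg
  exact key _ fun i hi => List.mem_range.mp hi

theorem norm_rad {g : List ℕ} {row : List ℕ} (h : chkNorm g row = true) :
    ∀ x ∈ rad, W g * x * (W g)⁻¹ ∈ rad := by
  simp only [chkNorm, Bool.and_eq_true] at h
  intro x hx
  induction hx using Subgroup.closure_induction with
  | mem y hy =>
    obtain ⟨s, hs, rfl⟩ := hy
    have := allN_spec h.2 s hs
    simp only [Bool.and_eq_true, Nat.blt_eq] at this
    rw [W_conj h.1 this.2]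
    exact qword_mem _
  | one => simp [one_mem]
  | mul y z _ _ hy hz =>
    rw [show W g * (y * z) * (W g)⁻¹ = W g * y * (W g)⁻¹ * (W g * z * (W g)⁻¹) by group]
    exact mul_mem hy hz
  | inv y _ hy =>
    rw [show W g * y⁻¹ * (W g)⁻¹ = (W g * y * (W g)⁻¹)⁻¹ by group]
    exact inv_mem hy

theorem base_norm {i : ℕ} (hi : i < 10) :
    ∀ x ∈ rad, W (base.getD i []) * x * (W (base.getD i []))⁻¹ ∈ rad := by
  have h := conj_ok
  simp only [chkConj, Bool.and_eq_true] at h
  exact norm_rad (allN_spec h.1 i hi)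

theorem levi_norm {i : ℕ} (hi : i < 6) {x : P} (hx : x ∈ rad) :
    W [3 * (12 + i) + 1] * x * (W [3 * (12 + i) + 1])⁻¹ ∈ rad ∧
      (W [3 * (12 + i) + 1])⁻¹ * x * W [3 * (12 + i) + 1] ∈ rad := by
  have h := conj_ok
  simp only [chkConj, Bool.and_eq_true] at h
  have h1 := norm_rad (allN_spec h.2 i hi)
  refine ⟨h1 x hx, ?_⟩
  obtain ⟨e1, e2⟩ := gen_pow (12 + i) (by omega)
  have := h1 _ (h1 x hx)
  have e3 : W [3 * (12 + i) + 1] * W [3 * (12 + i) + 1] = (W [3 * (12 + i) + 1])⁻¹ := e1.trans e2.symm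
  rw [show W [3 * (12 + i) + 1] * (W [3 * (12 + i) + 1] * x * (W [3 * (12 + i) + 1])⁻¹) *
    (W [3 * (12 + i) + 1])⁻¹ = W [3 * (12 + i) + 1] * W [3 * (12 + i) + 1] * x *
      (W [3 * (12 + i) + 1] * W [3 * (12 + i) + 1])⁻¹ by group, e3, inv_inv] at this
  exact this

theorem lword_norm (a : ℕ) {x : P} (hx : x ∈ rad) : (W (lword a))⁻¹ * x * W (lword a) ∈ rad := by
  have key : ∀ l : List ℕ, (∀ i ∈ l, i < 6) → ∀ y ∈ rad,
      (W (l.flatMap fun i =>
        bif Nat.beq (a / 3 ^ (5 - i) % 3) 0 then [] else [3 * (12 + i) + a / 3 ^ (5 - i) % 3]))⁻¹ * y *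
      W (l.flatMap fun i =>
        bif Nat.beq (a / 3 ^ (5 - i) % 3) 0 then [] else [3 * (12 + i) + a / 3 ^ (5 - i) % 3]) ∈ rad := by
    intro l
    induction l with
    | nil => intro _ y hy; simpa [W_nil] using hy
    | cons i l ih =>
      intro h y hy
      have hi := h i (List.mem_cons_self ..)
      rw [List.flatMap_cons, W_append]
      generalize hA : W (bif Nat.beq (a / 3 ^ (5 - i) % 3) 0 then [] else
        [3 * (12 + i) + a / 3 ^ (5 - i) % 3]) = A
      have hA' : A⁻¹ * y * A ∈ rad := by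
        have ht := Nat.mod_lt (a / 3 ^ (5 - i)) (show 3 > 0 by norm_num)
        interval_cases ht' : a / 3 ^ (5 - i) % 3
        · rw [← hA, show Nat.beq 0 0 = true from rfl, cond_true, W_nil]; simpa using hy
        · rw [← hA, show Nat.beq 1 0 = false from rfl, cond_false]
          exact (levi_norm hi hy).2
        · rw [← hA, show Nat.beq 2 0 = false from rfl, cond_false,
            ← (gen_pow (12 + i) (by omega)).2, inv_inv]
          exact (levi_norm hi hy).1
      have := ih (fun j hj => h j (List.mem_cons_of_mem _ hj)) _ hA'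
      simpa [mul_assoc] using this
  exact key _ (fun i hi => List.mem_range.mp hi) x hx

/-- The maximal unipotent subgroup. -/
noncomputable def uni : Subgroup P := Subgroup.closure {x | ∃ s < 12, x = W [3 * (12 + s) + 1]}

theorem mem_uni {x : P} (hx : x ∈ uni) : ∃ a < 729, ∃ q ∈ rad, x = W (lword a) * q := by
  have step : ∀ a < 729, ∀ q ∈ rad, ∀ s < 12,
      ∃ a' < 729, ∃ q' ∈ rad, W (lword a) * q * W [3 * (12 + s) + 1] = W (lword a') * q' := by
    intro a ha q hq s hs
    by_cases h6 : s < 6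
    · obtain ⟨a', ha', e⟩ := mem_table (by norm_num) mulL_all ha h6
      refine ⟨a', ha', _, (levi_norm h6 hq).2, ?_⟩
      show _ = W (digits 12 a') * _
      rw [← e]
      show W (digits 12 a) * q * _ = _
      group
    · refine ⟨a, ha, q * W [3 * (12 + s) + 1], mul_mem hq ?_, mul_assoc _ _ _⟩
      exact Subgroup.subset_closure ⟨s - 6, by omega, by rw [show 18 + (s - 6) = 12 + s by omega]⟩
  refine Subgroup.closure_induction_right
    (p := fun x _ => ∃ a < 729, ∃ q ∈ rad, x = W (lword a) * q) ?_ ?_ ?_ hx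
  · exact ⟨0, by norm_num, 1, one_mem _, by rw [lword, digits_zero, W_nil, one_mul]⟩
  · rintro y _ _ ⟨s, hs, rfl⟩ ⟨a, ha, q, hq, rfl⟩
    exact step a ha q hq s hs
  · rintro y _ _ ⟨s, hs, rfl⟩ ⟨a, ha, q, hq, rfl⟩
    obtain ⟨a1, ha1, q1, hq1, e1⟩ := step a ha q hq s hs
    obtain ⟨a2, ha2, q2, hq2, e2⟩ := step a1 ha1 q1 hq1 s hs
    refine ⟨a2, ha2, q2, hq2, ?_⟩
    rw [(gen_pow _ (show 12 + s < 24 by omega)).2, ← (gen_pow _ (show 12 + s < 24 by omega)).1,
      ← mul_assoc, e1, e2]

theorem card_P : Nat.card P = 4952179814400 := by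
  have h := Cfsg.Agent.S1061.result (F := ZMod 3) (q := 3) (by simp [ZMod.card])
  norm_num at h
  linarith

/-- The unipotent subgroup of the simple group. -/
noncomputable def posU : Subgroup P :=
  (good_D4.US (ZMod 3) {r | Tab.IsPos chevD4 r}).subgroupOf (chevD4.group (ZMod 3))

theorem posU_le : posU ≤ uni := by
  have hU : good_D4.US (ZMod 3) {r | Tab.IsPos chevD4 r} ≤ uni.map (chevD4.group (ZMod 3)).subtype := by
    unfold Tab.Good.US
    rw [Subgroup.closure_le]
    rintro g ⟨r, ⟨hr1, hr2⟩, t, rfl⟩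
    have hr1' : r < 24 := hr1
    have hr2' : 24 ≤ 2 * r := hr2
    have hg : W [3 * r + 1] ∈ uni :=
      Subgroup.subset_closure ⟨r - 12, by omega, by rw [show 12 + (r - 12) = r by omega]⟩
    let S := good_D4.scData (good_D4.scθ (ZMod 3)) fun r t hr => good_D4.coe_scθ hr t
    have ev : ∀ k : ℕ, k < 3 → k ≠ 0 →
        (W [3 * r + k] : GL chevD4.Idx (ZMod 3)) = good_D4.full.x r (k : ZMod 3) := by
      intro k hk hk0
      show S.θ (Wc [3 * r + k]) = _
      rw [Wc, List.map_singleton, List.prod_singleton, show (3 * r + k) / 3 = r by omega,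
        show (3 * r + k) % 3 = k by omega]
      exact S.θ_x r (k : ZMod 3)
    obtain ⟨k, hk, rfl⟩ : ∃ k : ℕ, k < 3 ∧ (k : ZMod 3) = t :=
      ⟨t.val, t.val_lt, ZMod.natCast_rightInverse t⟩
    interval_cases k
    · rw [Nat.cast_zero, good_D4.full.x_zero]; exact one_mem _
    · exact ⟨_, hg, ev 1 (by norm_num) one_ne_zero⟩
    · exact ⟨_, mul_mem hg hg, by
        rw [(gen_pow r hr1').1]; exact ev 2 (by norm_num) two_ne_zero⟩
  intro x hx
  obtain ⟨y, hy, e⟩ := hU hx
  rwa [← Subtype.ext (show (y : GL chevD4.Idx (ZMod 3)) = x from e)]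

theorem card_posU : Nat.card posU = 3 ^ 12 := by
  have hle : good_D4.US (ZMod 3) {r | Tab.IsPos chevD4 r} ≤ chevD4.group (ZMod 3) :=
    good_D4.US_le_group _
  rw [posU, Nat.card_congr (Subgroup.subgroupOfEquivOfLe hle).toEquiv,
    good_D4.card_US good_D4.closed_pos, good_D4.card_pos, Nat.card_zmod]
  rfl

theorem exists_conj_uni {x : P} (hx : x ^ 3 = 1) : ∃ g : P, g * x * g⁻¹ ∈ uni := by
  haveI : Finite P := Nat.finite_of_card_ne_zero (by rw [card_P]; norm_num)
  by_cases h1 : x = 1
  · exact ⟨1, by simp [h1, one_mem]⟩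
  let S : Sylow 3 P := Sylow.ofCard posU (by
    rw [card_posU, card_P, show (4952179814400 : ℕ) = 3 ^ 12 * 9318400 from rfl,
      Nat.factorization_mul (by norm_num) (by norm_num), Finsupp.add_apply,
      Nat.Prime.factorization_pow Nat.prime_three, Finsupp.single_eq_same,
      Nat.factorization_eq_zero_of_not_dvd (by norm_num : ¬ 3 ∣ 9318400), add_zero])
  have hz : IsPGroup 3 (Subgroup.zpowers x) := IsPGroup.of_card (n := 1) (by
    rw [Nat.card_zpowers, orderOf_eq_prime hx h1, pow_one])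
  obtain ⟨S', hS'⟩ := hz.exists_le_sylow
  obtain ⟨g, hg⟩ := MulAction.exists_smul_eq P S' S
  refine ⟨g, posU_le ?_⟩
  have : g * x * g⁻¹ ∈ (↑(g • S') : Subgroup P) := by
    rw [Sylow.coe_subgroup_smul]
    exact Subgroup.smul_mem_pointwise_smul _ _ _ (hS' (Subgroup.mem_zpowers x))
  rw [hg] at this
  exact this

/-- Conjugate to a power of a representative. -/
def Covered (x : P) : Prop :=
  x = 1 ∨ ∃ s < 26, ∃ g : P, g * x * g⁻¹ = W (repPow s)

theorem covered_of_conj {x : P} (g : P) (h : Covered (g * x * g⁻¹)) : Covered x := by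
  rcases h with h | ⟨s, hs, k, hk⟩
  · exact Or.inl (by simpa [mul_inv_eq_one] using h)
  · exact Or.inr ⟨s, hs, k * g, by rw [← hk]; group⟩

theorem vd_one_or {u v : List ℕ} (hu : okW u = true) (hv : okW v = true) (h : W u = W v)
    {pos : List (ℕ × ℕ)} (hpos : ∀ p ∈ pos, p.1 < 8 ∧ p.2 < 8) (hag : agree pos one (ev v one) = true) :
    plusMinus pos (ev u one) = true := by
  obtain ⟨s, hs, he⟩ := val_of_W_eq hu hv h
  simp only [agree, List.all_eq_true, Nat.beq_eq] at hag
  have key : ∀ p m x y : Bool, (p && m) = false → ∀ z : ℕ,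
      (bif p then 1 else bif m then 2 else (0 : ℕ)) = z →
      g3 x y = -g3 p m → (bif x then 1 else bif y then 2 else (0 : ℕ)) = (3 - z) % 3 := by
    intro p m x y hpm z hz; subst hz; revert p m x y; decide
  rw [plusMinus, Bool.or_eq_true]
  rcases hs with rfl | rfl
  · left
    simp only [agree, List.all_eq_true, Nat.beq_eq]
    intro p hp
    obtain ⟨k, hk⟩ := CfsgLib.OrthElem.fits_D4.surj _ (hpos p hp).2
    obtain ⟨i, hi⟩ := CfsgLib.OrthElem.fits_D4.surj _ (hpos p hp).1
    rw [← hag p hp]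
    refine vd_congr ?_
    rw [← hk, ← hi, he, one_mul]
  · right
    simp only [agree, List.all_eq_true, Nat.beq_eq]
    intro p hp
    obtain ⟨k, hk⟩ := CfsgLib.OrthElem.fits_D4.surj _ (hpos p hp).2
    obtain ⟨i, hi⟩ := CfsgLib.OrthElem.fits_D4.surj _ (hpos p hp).1
    have h1 := he k i
    rw [hk, hi, neg_one_mul] at h1
    have hd := (ev_spec one_disj (show 0 < 8 by norm_num) v hv).1
    rw [vd, key _ _ _ _ (hd _) _ (hag p hp) h1]
    simp only [vd, one, Nat.zero_testBit, cond_false]
    cases Nat.testBit _ _ <;> rfl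

theorem midPos_lt : ∀ p ∈ midPos, p.1 < 8 ∧ p.2 < 8 := by decide

theorem allPos_lt : ∀ p ∈ allPos, p.1 < 8 ∧ p.2 < 8 := by decide

theorem okW_append {u v : List ℕ} : okW (u ++ v) = (okW u && okW v) := List.all_append

theorem coset_covered {m : ℕ} {moves paths : List (List ℕ)} {T : ℕ}
    (h : allN (chk2 m moves paths T) 729 = true) :
    ∀ q < 729, (W (lword m ++ qword q)) ^ 3 = 1 → Covered (W (lword m ++ qword q)) := by
  suffices H : ∀ k q, q < 729 → eK (ent T q) = k →
      (W (lword m ++ qword q)) ^ 3 = 1 → Covered (W (lword m ++ qword q)) from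
    fun q hq => H _ q hq rfl
  intro k
  induction k using Nat.strong_induction_on with
  | _ k ih =>
    intro q hq hk hx
    have hc := allN_spec h q hq
    simp only [chk2, Bool.and_eq_true] at hc
    obtain ⟨hok, hc⟩ := hc
    generalize hi : eI (ent T q) = i at hc
    generalize hpq : eP (ent T q) = p at hc
    generalize ha : eK (ent T q) = a at hc hk
    match a, hc with
    | 0, hc =>
      exfalso
      simp only [Bool.not_eq_true'] at hc
      have e : W ((lword m ++ qword q) ++ (lword m ++ qword q) ++ (lword m ++ qword q)) = W [] := by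
        rw [W_append, W_append, W_nil, ← hx, pow_three, mul_assoc]
      have := vd_one_or (by rw [okW_append, okW_append, hok]; rfl) rfl e allPos_lt (by decide +kernel)
      rw [hc] at this
      exact Bool.noConfusion this
    | 1, hc => exact Or.inl (by rw [sameB_spec hc, W_nil])
    | 2, hc =>
      simp only [Bool.and_eq_true, Nat.blt_eq] at hc
      exact Or.inr ⟨p, hc.1.2, _, W_conj hc.1.1 hc.2⟩
    | n + 3, hc =>
      simp only [Bool.and_eq_true, Nat.blt_eq] at hc
      obtain ⟨⟨⟨hg, hp⟩, hlt⟩, hs⟩ := hc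
      have e := W_conj hg hs
      refine covered_of_conj (W (moves.getD i [])) ?_
      rw [e]
      refine ih _ (hk ▸ hlt) p hp rfl ?_
      rw [← e, conj_pow, hx, mul_one, mul_inv_cancel]

theorem uni_covered {a : ℕ} (ha : a < 729) : ∀ q ∈ rad, (W (lword a) * q) ^ 3 = 1 →
    Covered (W (lword a) * q) := by
  suffices H : ∀ k a, a < 729 → eK (ent stage1 a) = k → ∀ q ∈ rad,
      (W (lword a) * q) ^ 3 = 1 → Covered (W (lword a) * q) from H _ a ha rfl
  intro k
  induction k using Nat.strong_induction_on with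
  | _ k ih =>
    intro a ha hk q hq hx
    have hc := stage1_all a ha
    simp only [chk1, Bool.and_eq_true] at hc
    obtain ⟨hok, hc⟩ := hc
    generalize hei : eI (ent stage1 a) = i at hc
    generalize hep : eP (ent stage1 a) = p at hc
    generalize hn : eK (ent stage1 a) = n at hc hk
    match n, hc with
    | 0, hc =>
      exfalso
      simp only [Bool.not_eq_true'] at hc
      set m := W (lword a)
      have hq1 := lword_norm a hq
      have hq2 := lword_norm a hq1
      obtain ⟨b, hb, e⟩ : ∃ b < 729, m * m * m = W (qword b) := by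
        refine mem_rad ?_
        have e2 : m * m * m = ((m⁻¹ * (m⁻¹ * q * m) * m) * (m⁻¹ * q * m) * q)⁻¹ := by
          rw [eq_inv_iff_mul_eq_one, ← hx, pow_three]; group
        rw [e2]
        exact inv_mem (mul_mem (mul_mem hq2 hq1) hq)
      have hb' := mid_all b hb
      simp only [chkMid, Bool.and_eq_true] at hb'
      have e' : W (lword a ++ lword a ++ lword a) = W (qword b) := by rw [W_append, W_append, e]
      have := vd_one_or (by rw [okW_append, okW_append, hok]; rfl) hb'.1 e' midPos_lt hb'.2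
      rw [hc] at this
      exact Bool.noConfusion this
    | 1, hc =>
      obtain ⟨b, hb, rfl⟩ := mem_rad hq
      rw [← W_append] at hx ⊢
      obtain ⟨r, hr, e⟩ := List.any_eq_true.mp hc
      rw [Nat.beq_eq] at e
      subst e
      simp only [roots1, List.mem_cons, List.not_mem_nil, or_false] at hr
      rcases hr with rfl | rfl | rfl | rfl | rfl
      · exact coset_covered stage2_0_ok b hb hx
      · exact coset_covered stage2_1_ok b hb hx
      · exact coset_covered stage2_2_ok b hb hx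
      · exact coset_covered stage2_3_ok b hb hx
      · exact coset_covered stage2_4_ok b hb hx
    | n + 2, hc =>
      simp only [Bool.and_eq_true, Nat.blt_eq] at hc
      obtain ⟨⟨⟨hi, hp⟩, hlt⟩, hs⟩ := hc
      have hg : okW (base.getD i []) = true := by
        have h : ∀ i < 10, okW (base.getD i []) = true := by decide +kernel
        exact h i hi
      refine covered_of_conj (W (base.getD i [])) ?_
      have e : W (base.getD i []) * (W (lword a) * q) * (W (base.getD i []))⁻¹ =
          W (lword p) * (W (base.getD i []) * q * (W (base.getD i []))⁻¹) := by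
        rw [← W_conj hg hs]; group
      rw [e]
      refine ih _ (hk ▸ hlt) p hp rfl _ (base_norm hi q hq) ?_
      rw [← e, conj_pow, hx, mul_one, mul_inv_cancel]

/-- Every element of order three is conjugate to a power of a representative. -/
theorem covered {x : P} (hx : x ^ 3 = 1) : Covered x := by
  obtain ⟨g, hg⟩ := exists_conj_uni hx
  obtain ⟨a, ha, q, hq, e⟩ := mem_uni hg
  refine covered_of_conj g ?_
  rw [e]
  refine uni_covered ha q hq ?_
  rw [← e, conj_pow, hx, mul_one, mul_inv_cancel]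

end CfsgLib.O83Three
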