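import Cfsg.Agent.O83Three.Bits
import Cfsg.Agent.O83Three.Data

/-! The checks on the certificates for the elements of order three in `PΩ₈⁺(3)`. -/

set_option autoImplicit false

namespace CfsgLib.O83Three

/-- Two words with the same matrix. -/
def sameB (u v : List Nat) : Bool :=
  okW u && okW v && Nat.beq (ev u one).1 (ev v one).1 && Nat.beq (ev u one).2 (ev v one).2

/-- The digits of a number as a word in six consecutive roots. -/
def digits (r a : Nat) : List Nat :=
  (List.range 6).flatMap fun i =>
    bif Nat.beq (a / 3 ^ (5 - i) % 3) 0 then [] else [3 * (r + i) + a / 3 ^ (5 - i) % 3]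

/-- A word of the Levi part. -/
def lword (a : Nat) : List Nat := digits 12 a

/-- A word of the radical. -/
def qword (b : Nat) : List Nat := digits 18 b

/-- The middle entries. -/
def midPos : List (Nat × Nat) :=
  [1, 2, 3, 5, 6, 7].flatMap fun i => [1, 2, 3, 5, 6, 7].map fun j => (i, j)

/-- All entries. -/
def allPos : List (Nat × Nat) :=
  (List.range 8).flatMap fun i => (List.range 8).map fun j => (i, j)

/-- The entries agree with a reference matrix. -/
def agree (pos : List (Nat × Nat)) (T S : St) : Bool :=
  pos.all fun p => Nat.beq (vd S p.1 p.2) (vd T p.1 p.2)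

/-- The entries are those of plus or minus the identity. -/
def plusMinus (pos : List (Nat × Nat)) (S : St) : Bool :=
  agree pos one S || agree pos (one.2, one.1) S

/-- Checking below a bound. -/
def allN (p : Nat → Bool) : Nat → Bool
  | 0 => true
  | n + 1 => p n && allN p n

/-- Checking a block of eighty-one numbers. -/
def allBlock (p : Nat → Bool) (k : Nat) : Bool := allN (fun i => p (81 * k + i)) 81

/-- The entry of a table packed in fields of sixteen bits. -/
def tab (T : List Nat) (i j : Nat) : Nat := (T.getD i 0 >>> (16 * j)) &&& 65535

/-- The entry of a forest packed in fields of twenty-four bits. -/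
def ent (T j : Nat) : Nat := (T >>> (24 * j)) &&& 16777215

/-- The kind or rank of an entry. -/
def eK (e : Nat) : Nat := e % 16

/-- The move or conjugator of an entry. -/
def eI (e : Nat) : Nat := e / 16 % 256

/-- The parent or image of an entry. -/
def eP (e : Nat) : Nat := e / 4096

/-- Conjugates of the generators of the radical by a word lie in the radical. -/
def chkNorm (g : List Nat) (row : List Nat) : Bool :=
  okW g && allN (fun s => Nat.blt (row.getD s 729) 729 &&
    sameB (g ++ [3 * (18 + s) + 1] ++ iw g) (qword (row.getD s 729))) 6

/-- The checks on the moves. -/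
def chkConj : Bool :=
  allN (fun i => chkNorm (base.getD i []) (conjBase.getD i [])) 10 &&
    allN (fun i => chkNorm [3 * (12 + i) + 1] (conjLevi.getD i [])) 6

/-- The multiplication table of six consecutive roots. -/
def chkMul (r : Nat) (T : List Nat) (a : Nat) : Bool :=
  allN (fun i => Nat.blt (tab T i a) 729 &&
    sameB (digits r a ++ [3 * (r + i) + 1]) (digits r (tab T i a))) 6

/-- The middle entries of a word of the radical. -/
def chkMid (b : Nat) : Bool := okW (qword b) && agree midPos one (ev (qword b) one)

/-- The first stage. -/
def chk1 (m : Nat) : Bool :=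
  okW (lword m) &&
  match eK (ent stage1 m) with
  | 0 => !plusMinus midPos (ev (lword m ++ lword m ++ lword m) one)
  | 1 => roots1.any fun r => Nat.beq r m
  | k => Nat.blt (eI (ent stage1 m)) 10 && Nat.blt (eP (ent stage1 m)) 729 &&
      Nat.blt (eK (ent stage1 (eP (ent stage1 m)))) k &&
      sameB (base.getD (eI (ent stage1 m)) [] ++ lword m ++ iw (base.getD (eI (ent stage1 m)) []))
        (lword (eP (ent stage1 m)))

/-- A representative to the first or second power. -/
def repPow (s : Nat) : List Nat :=
  bif Nat.beq (s % 2) 0 then repW.getD (s / 2) [] else repW.getD (s / 2) [] ++ repW.getD (s / 2) []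

/-- The second stage. -/
def chk2 (m : Nat) (moves paths : List (List Nat)) (T : Nat) (q : Nat) : Bool :=
  okW (lword m ++ qword q) &&
  match eK (ent T q) with
  | 0 =>
      !plusMinus allPos (ev ((lword m ++ qword q) ++ (lword m ++ qword q) ++ (lword m ++ qword q)) one)
  | 1 => sameB (lword m ++ qword q) []
  | 2 => okW (paths.getD (eI (ent T q)) []) && Nat.blt (eP (ent T q)) 26 &&
      sameB (paths.getD (eI (ent T q)) [] ++ (lword m ++ qword q) ++ iw (paths.getD (eI (ent T q)) []))
        (repPow (eP (ent T q)))
  | k => okW (moves.getD (eI (ent T q)) []) && Nat.blt (eP (ent T q)) 729 &&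
      Nat.blt (eK (ent T (eP (ent T q)))) k &&
      sameB (moves.getD (eI (ent T q)) [] ++ (lword m ++ qword q) ++ iw (moves.getD (eI (ent T q)) []))
        (lword m ++ qword (eP (ent T q)))

end CfsgLib.O83Three
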