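import Cfsg.Agent.O83Three.FixDefs

/-! Evaluation of the numbers of fixed vectors. -/

set_option autoImplicit false
set_option maxRecDepth 100000
set_option Elab.async false

namespace CfsgLib.O83Three

theorem fix_0 : fixCount (repW.getD 0 []) = fixTable.getD 0 (0, 0) := by decide +kernel

theorem fix_1 : fixCount (repW.getD 1 []) = fixTable.getD 1 (0, 0) := by decide +kernel

theorem fix_2 : fixCount (repW.getD 2 []) = fixTable.getD 2 (0, 0) := by decide +kernel

theorem fix_3 : fixCount (repW.getD 3 []) = fixTable.getD 3 (0, 0) := by decide +kernel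

theorem fix_4 : fixCount (repW.getD 4 []) = fixTable.getD 4 (0, 0) := by decide +kernel

theorem fix_5 : fixCount (repW.getD 5 []) = fixTable.getD 5 (0, 0) := by decide +kernel

theorem fix_6 : fixCount (repW.getD 6 []) = fixTable.getD 6 (0, 0) := by decide +kernel

theorem fix_7 : fixCount (repW.getD 7 []) = fixTable.getD 7 (0, 0) := by decide +kernel

theorem fix_8 : fixCount (repW.getD 8 []) = fixTable.getD 8 (0, 0) := by decide +kernel

theorem fix_9 : fixCount (repW.getD 9 []) = fixTable.getD 9 (0, 0) := by decide +kernel

theorem fix_10 : fixCount (repW.getD 10 []) = fixTable.getD 10 (0, 0) := by decide +kernel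

theorem fix_11 : fixCount (repW.getD 11 []) = fixTable.getD 11 (0, 0) := by decide +kernel

theorem fix_12 : fixCount (repW.getD 12 []) = fixTable.getD 12 (0, 0) := by decide +kernel

end CfsgLib.O83Three
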