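import Cfsg.Agent.O83Three.Defs

/-! Counting fixed vectors of the representatives. -/

set_option autoImplicit false

namespace CfsgLib.O83Three

/-- A digit of a vector number. -/
def dig (k i : Nat) : Nat := k / 3 ^ i % 3

/-- Assembling eight rows. -/
def rows (f : Nat → Bool) : Nat :=
  (bif f 0 then 1 <<< 0 else 0) ||| (bif f 1 then 1 <<< 8 else 0) |||
  (bif f 2 then 1 <<< 16 else 0) ||| (bif f 3 then 1 <<< 24 else 0) |||
  (bif f 4 then 1 <<< 32 else 0) ||| (bif f 5 then 1 <<< 40 else 0) |||
  (bif f 6 then 1 <<< 48 else 0) ||| (bif f 7 then 1 <<< 56 else 0)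

/-- A vector as the first column of a matrix. -/
def stv (k : Nat) : St :=
  (rows fun i => Nat.beq (dig k i) 1, rows fun i => Nat.beq (dig k i) 2)

/-- The form on a vector number. -/
def qnum (k : Nat) : Nat :=
  (dig k 0 * dig k 4 + dig k 1 * dig k 5 + dig k 2 * dig k 6 + dig k 3 * dig k 7) % 3

/-- The mask of the first column. -/
def mask : Nat := 72340172838076673

/-- A fixed vector. -/
def fixB (w : List Nat) (k : Nat) : Bool :=
  Nat.beq ((ev w (stv k)).1 &&& mask) ((stv k).1 &&& mask) &&
    Nat.beq ((ev w (stv k)).2 &&& mask) ((stv k).2 &&& mask)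

/-- Counting below a bound. -/
def countN (p : Nat → Bool) : Nat → Nat
  | 0 => 0
  | n + 1 => bif p n then countN p n + 1 else countN p n

/-- The numbers of fixed vectors with each of two values of the form. -/
def fixCount (w : List Nat) : Nat × Nat :=
  (countN (fun k => Nat.beq (qnum k) 0 && fixB w k) 6561,
    countN (fun k => Nat.beq (qnum k) 1 && fixB w k) 6561)

/-- The numbers for the representatives. -/
def fixTable : List (Nat × Nat) :=
  [(297, 216), (243, 270), (243, 216), (81, 0), (81, 0), (81, 0), (27, 54), (27, 0), (81, 0),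
    (27, 0), (27, 54), (45, 18), (9, 36)]

end CfsgLib.O83Three
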