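import Cfsg.Agent.S1265
import Cfsg.Prelude.Def_KGroupFacts

/-! Classes of subgroups of order three in a simple group and in its extensions by symmetries. -/

set_option autoImplicit false
set_option linter.style.haveILetI false

namespace CfsgLib.O83Three

theorem map_mulEquiv_inj {A B : Type*} [Group A] [Group B] (e : A ≃* B) {X Y : Subgroup A}
    (h : X.map e.toMonoidHom = Y.map e.toMonoidHom) : X = Y :=
  Subgroup.map_injective (f := e.toMonoidHom) e.injective h

theorem map_conj_map {A B : Type*} [Group A] [Group B] (f : A →* B) (X : Subgroup A) (g : A) :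
    (X.map (MulAut.conj g).toMonoidHom).map f = (X.map f).map (MulAut.conj (f g)).toMonoidHom := by
  rw [Subgroup.map_map, Subgroup.map_map]
  congr 1
  ext x
  simp [MulAut.conj_apply]

theorem map_conj_comp {A : Type*} [Group A] (X : Subgroup A) (a b : A) :
    (X.map (MulAut.conj a).toMonoidHom).map (MulAut.conj b).toMonoidHom =
      X.map (MulAut.conj (b * a)).toMonoidHom := by
  rw [Subgroup.map_map]
  congr 1
  ext x
  simp [MulAut.conj_apply, mul_assoc]

/-- Thirteen classes of subgroups of order three and their images under six automorphisms. -/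
structure Setting (P : Type*) [Group P] where
  /-- The representatives. -/
  Z : ℕ → Subgroup P
  /-- The permutations of the classes. -/
  rho : ℕ → ℕ → ℕ
  /-- The automorphisms. -/
  gam : Fin 6 → MulAut P
  card_Z : ∀ {i : ℕ}, i < 13 → Nat.card (Z i) = 3
  eq_of_conj : ∀ {i j : ℕ}, i < 13 → j < 13 → ∀ g : P,
    (Z i).map (MulAut.conj g).toMonoidHom = Z j → i = j
  exists_conj_Z : ∀ X : Subgroup P, Nat.card X = 3 →
    ∃ i < 13, ∃ g : P, X.map (MulAut.conj g).toMonoidHom = Z i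
  gam_Z : ∀ (p : Fin 6) {i : ℕ}, i < 13 → rho p i < 13 ∧
    ∃ g : P, ((Z i).map (gam p).toMonoidHom).map (MulAut.conj g).toMonoidHom = Z (rho p i)

variable {P : Type*} [Group P] (D : Setting P)
include D

theorem classes_iso {A : Type*} [Group A] (e : P ≃* A) :
    ∃ Y : Fin 13 → Subgroup A, (∀ i, Nat.card (Y i) = 3) ∧
      (∀ i j, (∃ g : A, (Y i).map (MulAut.conj g).toMonoidHom = Y j) → i = j) ∧
      ∀ X : Subgroup A, Nat.card X = 3 → ∃ i, ∃ g : A, X.map (MulAut.conj g).toMonoidHom = Y i := by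
  refine ⟨fun i => (D.Z i).map e.toMonoidHom, fun i => ?_, fun i j ⟨g, hg⟩ => ?_, fun X hX => ?_⟩
  · rw [Subgroup.card_map_of_injective e.injective]; exact D.card_Z i.isLt
  · obtain ⟨g, rfl⟩ := e.surjective g
    refine Fin.ext (D.eq_of_conj i.isLt j.isLt g (map_mulEquiv_inj e ?_))
    rw [map_conj_map]; exact hg
  · have hs : (X.comap e.toMonoidHom).map e.toMonoidHom = X :=
      Subgroup.map_comap_eq_self_of_surjective e.surjective X
    obtain ⟨i, hi, g, hg⟩ := D.exists_conj_Z (X.comap e.toMonoidHom)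
      (by rw [← Subgroup.card_map_of_injective (f := e.toMonoidHom) e.injective, hs]; exact hX)
    refine ⟨⟨i, hi⟩, e g, ?_⟩
    conv_lhs => rw [← hs]
    show _ = (D.Z i).map e.toMonoidHom
    rw [← hg, map_conj_map]; rfl

/-- The class of a subgroup of order three is moved by an automorphism as by a symmetry. -/
theorem aut_moves {M : MulAut P} {p : Fin 6} (h : (D.gam p : Cfsg.Out P) = (M : Cfsg.Out P)) {i : ℕ}
    (hi : i < 13) :
    ∃ a : P, (D.Z i).map M.toMonoidHom = (D.Z (D.rho p i)).map (MulAut.conj a).toMonoidHom := by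
  obtain ⟨a, ha⟩ := QuotientGroup.eq.mp h
  obtain ⟨-, g, hg⟩ := D.gam_Z p hi
  refine ⟨D.gam p a * g⁻¹, ?_⟩
  have hM : M = D.gam p * MulAut.conj a := by rw [ha, mul_inv_cancel_left]
  rw [← hg, map_conj_comp, inv_mul_cancel_right, hM, Subgroup.map_map]
  congr 1
  ext x
  simp [MulAut.conj_apply]

universe u

variable {G : Type u} [Group G] [Finite G]

theorem classes_G (L : Subgroup G) (hL : L = Cfsg.generalizedFittingSubgroup G) [L.Normal]
    (e : ↥L ≃* P) (hq : Nonempty (G ⧸ L ≃* Equiv.Perm (Fin 3))) 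
    (hout : ∀ {K : Type u} [Group K] (f : K →* Cfsg.Out P), Function.Injective f → Nat.card K = 6 →
      ∃ o : Cfsg.Out P, (∀ k, ∃ p, (D.gam p : Cfsg.Out P) = o⁻¹ * f k * o) ∧
        ∀ p, ∃ k, (D.gam p : Cfsg.Out P) = o⁻¹ * f k * o)
    (orbitOf orbRep : ℕ → ℕ)
    (hlab : ∀ i < 13, orbitOf i < 7 ∧ ∀ p < 6, orbitOf (D.rho p i) = orbitOf i)
    (hex : ∀ i < 13, ∃ p < 6, D.rho p i = orbRep (orbitOf i))
    (hrep : ∀ k < 7, orbRep k < 13 ∧ orbitOf (orbRep k) = k) :
    ∃ Y : Fin 7 → Subgroup G, (∀ i, Y i ≤ L ∧ Nat.card (Y i) = 3) ∧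
      (∀ i j, (∃ g : G, (Y i).map (MulAut.conj g).toMonoidHom = Y j) → i = j) ∧
      ∀ X : Subgroup G, X ≤ L → Nat.card X = 3 →
        ∃ i, ∃ g : G, X.map (MulAut.conj g).toMonoidHom = Y i := by
  have hC : Subgroup.centralizer (L : Set G) ≤ L := by
    rw [hL]; exact Cfsg.Agent.S1265.result
  -- the automorphisms of the simple group induced by `G`
  let φ : G →* MulAut P := (MulAut.congr e).toMonoidHom.comp MulAut.conjNormal
  have φ_spec : ∀ (g : G) (x : ↥L), φ g (e x) = e (MulAut.conjNormal g x) := fun g x => by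
    simp [φ, MulAut.congr]
  have φ_L : ∀ l : ↥L, φ l = MulAut.conj (e l) := fun l => MulEquiv.ext fun y => by
    obtain ⟨x, rfl⟩ := e.surjective y
    rw [φ_spec, MulAut.conj_apply, ← map_inv, ← map_mul, ← map_mul]
    congr 1
  let f0 : G →* Cfsg.Out P := (QuotientGroup.mk' (Cfsg.Inn P)).comp φ
  have hf0 : L ≤ f0.ker := fun l hl => by
    rw [MonoidHom.mem_ker]
    show ((φ l : MulAut P) : Cfsg.Out P) = 1
    rw [QuotientGroup.eq_one_iff, φ_L ⟨l, hl⟩]
    exact ⟨_, rfl⟩
  let f : G ⧸ L →* Cfsg.Out P := QuotientGroup.lift L f0 hf0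
  have hf : Function.Injective f := by
    rw [← MonoidHom.ker_eq_bot_iff, eq_bot_iff]
    intro q hq
    induction q using QuotientGroup.induction_on with
    | H g =>
      rw [Subgroup.mem_bot, QuotientGroup.eq_one_iff]
      rw [MonoidHom.mem_ker] at hq
      change ((φ g : MulAut P) : Cfsg.Out P) = 1 at hq
      obtain ⟨a, ha⟩ := (QuotientGroup.eq_one_iff _).mp hq
      obtain ⟨l, rfl⟩ := e.surjective a
      have hc : g * (l : G)⁻¹ ∈ Subgroup.centralizer (L : Set G) := by
        rw [Subgroup.mem_centralizer_iff]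
        intro x hx
        have h1 : φ (g * (l : G)⁻¹) (e ⟨x, hx⟩) = e ⟨x, hx⟩ := by
          rw [map_mul, map_inv, φ_L, ← ha, mul_inv_cancel]; rfl
        rw [φ_spec] at h1
        have h2 := congrArg Subtype.val (e.injective h1)
        simp only [MulAut.conjNormal_apply] at h2
        exact (mul_inv_eq_iff_eq_mul.mp h2).symm
      simpa using mul_mem (hC hc) l.2
  obtain ⟨eq⟩ := hq
  have hK : Nat.card (G ⧸ L) = 6 := by
    rw [Nat.card_congr eq.toEquiv, Nat.card_perm, Nat.card_fin]; rfl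
  obtain ⟨o, ho1, ho2⟩ := hout f hf hK
  obtain ⟨μ, rfl⟩ := QuotientGroup.mk_surjective o
  let e' : ↥L ≃* P := e.trans μ⁻¹
  let ψ : G → MulAut P := fun g => μ⁻¹ * φ g * μ
  have ψ_spec : ∀ (g : G) (x : ↥L), ψ g (e' x) = e' (MulAut.conjNormal g x) := fun g x => by
    show μ⁻¹ (φ g (μ (μ⁻¹ (e x)))) = μ⁻¹ (e _)
    rw [MulAut.apply_inv_self, φ_spec]
  have ψ_class : ∀ g : G, ((ψ g : MulAut P) : Cfsg.Out P) =
      (μ : Cfsg.Out P)⁻¹ * f (g : G ⧸ L) * (μ : Cfsg.Out P) := fun g => rfl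
  let emb : Subgroup P → Subgroup G := fun Xp => (Xp.map e'.symm.toMonoidHom).map L.subtype
  have emb_inj : Function.Injective emb := fun A B h =>
    map_mulEquiv_inj e'.symm (Subgroup.map_injective L.subtype_injective h)
  have emb_card : ∀ Xp, Nat.card (emb Xp) = Nat.card Xp := fun Xp => by
    rw [Subgroup.card_map_of_injective L.subtype_injective,
      Subgroup.card_map_of_injective e'.symm.injective]
  have emb_le : ∀ Xp, emb Xp ≤ L := fun Xp => Subgroup.map_subtype_le _
  have emb_move : ∀ (g : G) (Xp : Subgroup P),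
      (emb Xp).map (MulAut.conj g).toMonoidHom = emb (Xp.map (ψ g).toMonoidHom) := by
    intro g Xp
    simp only [emb, Subgroup.map_map]
    congr 1
    ext y
    obtain ⟨x, rfl⟩ := e'.surjective y
    show g * ((e'.symm (e' x) : ↥L) : G) * g⁻¹ = ((e'.symm (ψ g (e' x)) : ↥L) : G)
    rw [ψ_spec, MulEquiv.symm_apply_apply, MulEquiv.symm_apply_apply, MulAut.conjNormal_apply]
  have emb_conj : ∀ (a : P) (Xp : Subgroup P), ∃ l : G,
      emb (Xp.map (MulAut.conj a).toMonoidHom) = (emb Xp).map (MulAut.conj l).toMonoidHom := by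
    intro a Xp
    refine ⟨(e'.symm a : ↥L), ?_⟩
    simp only [emb]
    rw [map_conj_map, map_conj_map]
    rfl
  refine ⟨fun k => emb (D.Z (orbRep k)), fun k => ⟨emb_le _, ?_⟩,
    fun k l ⟨g, hg⟩ => ?_, fun X hXL hX => ?_⟩
  · rw [emb_card]; exact D.card_Z (hrep k k.isLt).1
  · obtain ⟨hk, hlk⟩ := hrep k k.isLt
    obtain ⟨hl, hll⟩ := hrep l l.isLt
    rw [emb_move] at hg
    obtain ⟨p, hp⟩ := ho1 (g : G ⧸ L)
    obtain ⟨a, ha⟩ := aut_moves D (M := ψ g) (hp.trans (ψ_class g).symm) hk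
    have := emb_inj hg
    rw [ha] at this
    have hr := D.eq_of_conj (D.gam_Z p hk).1 hl a this
    refine Fin.ext ?_
    rw [← hlk, ← hll, ← hr, (hlab _ hk).2 p p.isLt]
  · let Xp : Subgroup P := (X.subgroupOf L).map e'.toMonoidHom
    have hXp : emb Xp = X := by
      simp only [emb, Xp, Subgroup.map_map]
      rw [show ((L.subtype.comp e'.symm.toMonoidHom).comp e'.toMonoidHom) = L.subtype from by
        ext x; simp]
      exact Subgroup.map_subgroupOf_eq_of_le hXL
    obtain ⟨i, hi, a, ha⟩ := D.exists_conj_Z Xp (by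
      rw [Subgroup.card_map_of_injective e'.injective,
        Nat.card_congr (Subgroup.subgroupOfEquivOfLe hXL).toEquiv, hX])
    obtain ⟨p, hp6, hp⟩ := hex i hi
    obtain ⟨q, hq⟩ := ho2 ⟨p, hp6⟩
    obtain ⟨g, rfl⟩ := QuotientGroup.mk_surjective q
    obtain ⟨b, hb⟩ := aut_moves D (M := ψ g) (hq.trans (ψ_class g).symm) hi
    obtain ⟨l1, hl1⟩ := emb_conj a Xp
    obtain ⟨l2, hl2⟩ := emb_conj b (D.Z (D.rho p i))
    have e1 : X.map (MulAut.conj (g * l1)).toMonoidHom =
        (emb (D.Z (D.rho p i))).map (MulAut.conj l2).toMonoidHom := by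
      rw [← map_conj_comp, ← hl2, ← hb, ← emb_move, ← ha, hl1, hXp]
    have hlt := (hlab i hi).1
    refine ⟨⟨orbitOf i, hlt⟩, l2⁻¹ * (g * l1), ?_⟩
    rw [← map_conj_comp, e1, map_conj_comp, inv_mul_cancel]
    show _ = emb (D.Z (orbRep (orbitOf i)))
    rw [← hp, map_one]
    exact Subgroup.map_id _

end CfsgLib.O83Three
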