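import Cfsg.Agent.O83Three.TriDefs

/-! Evaluation of the certificates for the symmetries of the diagram. -/

set_option autoImplicit false
set_option maxRecDepth 100000

namespace CfsgLib.O83Three

theorem tri_ok : allN (fun p => allN (chkTri p) 13) 6 = true := by decide +kernel

theorem rep_ok : allN chkRep 13 = true := by decide +kernel

theorem inv6_injective : ∀ i < 13, ∀ j < 13, inv6 i = inv6 j → i = j := by decide +kernel

theorem orbit_spec :
    (∀ i < 13, orbitOf.getD i 7 < 7 ∧ ∀ p < 6, orbitOf.getD (rho p i) 7 = orbitOf.getD i 7) ∧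
    (∀ i < 13, ∃ p < 6, rho p i = orbRep.getD (orbitOf.getD i 7) 13) ∧
    ∀ k < 7, orbRep.getD k 13 < 13 ∧ orbitOf.getD (orbRep.getD k 13) 7 = k := by
  decide +kernel

end CfsgLib.O83Three
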