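import Cfsg.Agent.O83Three.Classes
import Cfsg.Agent.O83Three.FixChecks
import Cfsg.Agent.O83Three.TriChecks

/-! The numbers of fixed vectors distinguish the classes. -/

set_option autoImplicit false
set_option linter.style.haveILetI false

namespace CfsgLib.O83Three

open QuadraticMap CfsgLib.OrthElem CfsgLib.Quad CfsgLib.Chev Cfsg.Lie CfsgLib.Forms

local instance : Fact (Nat.Prime 3) := ⟨Nat.prime_three⟩

/-- The vector of a number. -/
def vec (k : ℕ) : Vec := fun i => (dig k (codeD4 i) : ZMod 3)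

theorem dig_lt (k i : ℕ) : dig k i < 3 := Nat.mod_lt _ (by norm_num)

theorem testBit_rows (f : ℕ → Bool) : ∀ i < 8, (rows f).testBit (8 * i) = f i := by
  intro i hi
  interval_cases i <;>
    (cases h0 : f 0 <;> cases h1 : f 1 <;> cases h2 : f 2 <;> cases h3 : f 3 <;> cases h4 : f 4 <;>
      cases h5 : f 5 <;> cases h6 : f 6 <;> cases h7 : f 7 <;>
      simp only [rows, h0, h1, h2, h3, h4, h5, h6, h7] <;> decide)

theorem val_eq_vd (S : St) (i j : ℕ) : val S i j = (vd S i j : ZMod 3) := by
  have h : ∀ p m : Bool,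
      g3 p m = ((bif p then 1 else bif m then 2 else (0 : ℕ) : ℕ) : ZMod 3) := by decide
  exact h _ _

theorem col_stv (k : ℕ) : col (stv k) 0 = vec k := by
  funext i
  have hi := codeD4_lt i
  have h : ∀ d < 3, g3 (Nat.beq d 1) (Nat.beq d 2) = (d : ZMod 3) := by decide
  show g3 ((stv k).1.testBit (8 * codeD4 i + 0)) ((stv k).2.testBit (8 * codeD4 i + 0)) = _
  rw [add_zero, stv, testBit_rows _ _ hi, testBit_rows _ _ hi]
  exact h _ (dig_lt k _)

theorem stv_disj (k : ℕ) : Disj (stv k) := fun n => by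
  have hd : ∀ a b : Bool, (a && b) = false → ∀ s,
      (((bif a then 1 <<< s else 0 : ℕ).testBit n) && ((bif b then 1 <<< s else 0 : ℕ).testBit n)) =
        false := by
    intro a b hab s
    cases a <;> cases b <;> simp_all
  have hx : ∀ i, (Nat.beq (dig k i) 1 && Nat.beq (dig k i) 2) = false := fun i => by
    have := dig_lt k i
    interval_cases h : dig k i <;> rfl
  have hsep : ∀ (a b : Bool) (s t : ℕ), s ≠ t →
      (((bif a then 1 <<< s else 0 : ℕ).testBit n) && ((bif b then 1 <<< t else 0 : ℕ).testBit n)) =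
        false := by
    intro a b s t hst
    cases a <;> cases b <;> simp [Nat.one_shiftLeft, Nat.testBit_two_pow]
    omega
  simp only [stv, rows, Nat.testBit_lor, Bool.and_or_distrib_left, Bool.and_or_distrib_right,
    Bool.or_eq_false_iff]
  refine ⟨⟨⟨⟨⟨⟨⟨?_, ?_⟩, ?_⟩, ?_⟩, ?_⟩, ?_⟩, ?_⟩, ?_⟩
  all_goals (repeat' constructor)
  all_goals first | exact hd _ _ (hx _) _ | exact hsep _ _ _ _ (by norm_num)

theorem mask_bit (n : ℕ) : mask.testBit n = decide (n % 8 = 0 ∧ n < 64) := by
  by_cases h : n < 64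
  · revert h; revert n; decide
  · rw [Nat.testBit_lt_two_pow (lt_of_lt_of_le (show mask < 2 ^ 64 by decide)
      (Nat.pow_le_pow_right (by norm_num) (Nat.le_of_not_lt h)))]
    simp [h]

theorem masked_eq {A B : ℕ} :
    A &&& mask = B &&& mask ↔ ∀ i < 8, A.testBit (8 * i) = B.testBit (8 * i) := by
  constructor
  · intro h i hi
    have := congrArg (fun z => z.testBit (8 * i)) h
    simpa [Nat.testBit_land, mask_bit, show 8 * i < 64 by omega] using this
  · intro h
    refine Nat.eq_of_testBit_eq fun n => ?_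
    rw [Nat.testBit_land, Nat.testBit_land, mask_bit]
    by_cases hn : n % 8 = 0 ∧ n < 64
    · have := h (n / 8) (by omega)
      rw [show 8 * (n / 8) = n by omega] at this
      rw [this]
    · simp [hn]

theorem fixB_iff {w : List ℕ} (hw : okW w = true) (k : ℕ) :
    fixB w k = true ↔ (fM w).1 (vec k) = vec k := by
  obtain ⟨hd, he⟩ := ev_spec (stv_disj k) (show 0 < 8 by norm_num) w hw
  have key : ∀ p m x y : Bool, (p && m) = false → (x && y) = false →
      (g3 p m = g3 x y ↔ p = x ∧ m = y) := by decide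
  rw [← col_stv, ← he]
  simp only [fixB, Bool.and_eq_true, Nat.beq_eq, masked_eq]
  constructor
  · rintro ⟨h1, h2⟩
    funext i
    show g3 _ _ = g3 _ _
    rw [add_zero, h1 _ (codeD4_lt i), h2 _ (codeD4_lt i)]
  · intro h
    have h' : ∀ i < 8, (ev w (stv k)).1.testBit (8 * i) = (stv k).1.testBit (8 * i) ∧
        (ev w (stv k)).2.testBit (8 * i) = (stv k).2.testBit (8 * i) := by
      intro i hi
      obtain ⟨a, rfl⟩ := fits_D4.surj i hi
      have := congrFun h a
      change g3 _ _ = g3 _ _ at this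
      rw [add_zero] at this
      exact (key _ _ _ _ (hd _) (stv_disj k _)).mp this
    exact ⟨fun i hi => (h' i hi).1, fun i hi => (h' i hi).2⟩

theorem Q_vec (k : ℕ) : plusQ (F := ZMod 3) 4 (vec k) = (qnum k : ZMod 3) := by
  rw [plusQ_coe]
  simp [Cfsg.quadFormPlus, vec, qnum, codeD4, Fin.sum_univ_four, ZMod.natCast_mod]

/-- The number of a vector. -/
def numV (v : Vec) : ℕ :=
  (v (.inl 0)).val + 3 * ((v (.inl 1)).val + 3 * ((v (.inl 2)).val + 3 * ((v (.inl 3)).val +
    3 * ((v (.inr 0)).val + 3 * ((v (.inr 1)).val + 3 * ((v (.inr 2)).val + 3 * (v (.inr 3)).val))))))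

theorem numV_lt (v : Vec) : numV v < 6561 := by
  have := fun i => ZMod.val_lt (v i)
  have h1 := this (.inl 0); have h2 := this (.inl 1); have h3 := this (.inl 2)
  have h4 := this (.inl 3); have h5 := this (.inr 0); have h6 := this (.inr 1)
  have h7 := this (.inr 2); have h8 := this (.inr 3)
  unfold numV; omega

theorem vec_numV (v : Vec) : vec (numV v) = v := by
  have := fun i => ZMod.val_lt (v i)
  have h1 := this (.inl 0); have h2 := this (.inl 1); have h3 := this (.inl 2)
  have h4 := this (.inl 3); have h5 := this (.inr 0); have h6 := this (.inr 1)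
  have h7 := this (.inr 2); have h8 := this (.inr 3)
  funext i
  have e : dig (numV v) (codeD4 i) = (v i).val := by
    rcases i with i | i <;> fin_cases i <;> simp [codeD4, dig, numV] <;> omega
  rw [vec, e, ZMod.natCast_zmod_val]

theorem numV_vec {k : ℕ} (hk : k < 6561) : numV (vec k) = k := by
  have e : ∀ i, ((vec k) i).val = dig k (codeD4 i) := fun i => by
    rw [vec, ZMod.val_natCast, Nat.mod_eq_of_lt (dig_lt _ _)]
  simp only [numV, e]
  simp [codeD4, dig]
  omega

theorem countN_eq (p : ℕ → Bool) : ∀ n, countN p n = ((Finset.range n).filter fun k => p k = true).card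
  | 0 => rfl
  | n + 1 => by
    rw [Finset.range_add_one, Finset.filter_insert, countN, countN_eq p n]
    cases hp : p n
    · simp
    · rw [cond_true, if_pos rfl, Finset.card_insert_of_notMem (by simp)]

/-- The number of fixed vectors with a value of the form. -/
noncomputable def numFix (g : oGroup (plusQ (F := ZMod 3) 4)) (c : ZMod 3) : ℕ :=
  Nat.card {v : Vec // g.1 v = v ∧ plusQ (F := ZMod 3) 4 v = c}

theorem numFix_count {w : List ℕ} (hw : okW w = true) {c : ℕ} (hc : c < 3) :
    numFix (fM w) (c : ZMod 3) = countN (fun k => Nat.beq (qnum k) c && fixB w k) 6561 := by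
  rw [countN_eq, ← Nat.card_eq_finsetCard]
  have key : ∀ k, (Nat.beq (qnum k) c && fixB w k) = true ↔
      (fM w).1 (vec k) = vec k ∧ plusQ (F := ZMod 3) 4 (vec k) = (c : ZMod 3) := fun k => by
    rw [Bool.and_eq_true, fixB_iff hw, Nat.beq_eq, Q_vec, and_comm]
    refine and_congr_right fun _ => ⟨fun e => by rw [e], fun e => ?_⟩
    have := congrArg ZMod.val e
    rw [ZMod.val_natCast, ZMod.val_natCast] at this
    have hq : qnum k < 3 := Nat.mod_lt _ (by norm_num)
    omega
  refine Nat.card_congr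
    { toFun := fun v => ⟨numV v.1, Finset.mem_filter.mpr ⟨Finset.mem_range.mpr (numV_lt _),
        (key _).mpr (by rw [vec_numV]; exact v.2)⟩⟩
      invFun := fun k => ⟨vec k.1, (key _).mp (Finset.mem_filter.mp k.2).2⟩
      left_inv := fun v => Subtype.ext (vec_numV v.1)
      right_inv := fun k => Subtype.ext (numV_vec (Finset.mem_range.mp (Finset.mem_filter.mp k.2).1)) }

/-- The invariant of an isometry. -/
noncomputable def fixInv (g : oGroup (plusQ (F := ZMod 3) 4)) : ℕ × ℕ := (numFix g 0, numFix g 1)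

theorem fixInv_rep {i : ℕ} (hi : i < 13) :
    fixInv (fM (repW.getD i [])) = fixTable.getD i (0, 0) := by
  have hok : okW (repW.getD i []) = true := by
    revert hi; revert i; decide +kernel
  have h0 := numFix_count hok (show 0 < 3 by norm_num)
  have h1 := numFix_count hok (show 1 < 3 by norm_num)
  rw [Nat.cast_zero] at h0
  rw [Nat.cast_one] at h1
  rw [fixInv, h0, h1]
  show fixCount _ = _
  match i, hi with
  | 0, _ => exact fix_0
  | 1, _ => exact fix_1
  | 2, _ => exact fix_2
  | 3, _ => exact fix_3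
  | 4, _ => exact fix_4
  | 5, _ => exact fix_5
  | 6, _ => exact fix_6
  | 7, _ => exact fix_7
  | 8, _ => exact fix_8
  | 9, _ => exact fix_9
  | 10, _ => exact fix_10
  | 11, _ => exact fix_11
  | 12, _ => exact fix_12
  | n + 13, h => omega

theorem fixInv_conj (g h : oGroup (plusQ (F := ZMod 3) 4)) : fixInv (h * g * h⁻¹) = fixInv g := by
  have key : ∀ c, numFix (h * g * h⁻¹) c = numFix g c := by
    intro c
    refine Nat.card_congr (h.1.symm.toEquiv.subtypeEquiv fun v => ?_)
    show h.1 (g.1 (h.1.symm v)) = v ∧ _ ↔ g.1 (h.1.symm v) = h.1.symm v ∧ _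
    have hQ : plusQ (F := ZMod 3) 4 (h.1.symm v) = plusQ (F := ZMod 3) 4 v := by
      rw [← h.2 (h.1.symm v), LinearEquiv.apply_symm_apply]
    simp only [LinearEquiv.coe_toEquiv, hQ]
    rw [LinearEquiv.eq_symm_apply]
  simp [fixInv, key]

theorem fixInv_sq {g : oGroup (plusQ (F := ZMod 3) 4)} (hg : g ^ 3 = 1) :
    fixInv (g * g) = fixInv g := by
  have key : ∀ c, numFix (g * g) c = numFix g c := fun c => by
    refine Nat.card_congr (Equiv.subtypeEquivRight fun v => ?_)
    show g.1 (g.1 v) = v ∧ _ ↔ g.1 v = v ∧ _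
    refine and_congr_left fun _ => ⟨fun e => ?_, fun e => by rw [e, e]⟩
    have h3 : g.1 (g.1 (g.1 v)) = v := by
      have := congrArg (fun z : oGroup (plusQ (F := ZMod 3) 4) => z.1 v) hg
      rw [pow_three] at this
      exact this
    rw [e] at h3; exact h3
  simp [fixInv, key]

theorem cubeOne_spec {w : List ℕ} (h : cubeOne w = true) :
    okW w = true ∧ fM w ^ 3 = 1 ∧ W w ^ 3 = 1 := by
  have hW := sameB_spec h
  simp only [cubeOne, sameB, Bool.and_eq_true, Nat.beq_eq, okW_append] at h
  obtain ⟨⟨⟨⟨⟨hw, -⟩, -⟩, -⟩, h1⟩, h2⟩ := h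
  refine ⟨hw, ?_, ?_⟩
  · rw [pow_three, ← fM_nil, ← mul_assoc, ← fM_append, ← fM_append]
    exact fM_eq (by rw [okW_append, okW_append, hw]; rfl) rfl (Prod.ext h1 h2)
  · rw [pow_three, ← mul_assoc, ← W_append, ← W_append, hW, W_nil]

theorem fixInv_of_conj {u v : List ℕ} (hu : cubeOne u = true) (hv : cubeOne v = true) {g : P}
    (h : g * W u * g⁻¹ = W v ∨ g * W u * g⁻¹ = W v * W v) : fixInv (fM u) = fixInv (fM v) := by
  have main : ∀ z : C, fixInv (hom z) = fixInv (fM v) → hom z ^ 3 = 1 → g * W u * g⁻¹ = θ z →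
      fixInv (fM u) = fixInv (fM v) := by
    intro z hz hz3 h
    obtain ⟨c, rfl⟩ := θ_surj g
    have hk : c * Wc u * c⁻¹ * z⁻¹ ∈ θ.ker := by
      rw [MonoidHom.mem_ker, map_mul, map_inv, mul_inv_eq_one, map_mul, map_mul, map_inv]; exact h
    obtain ⟨s, hs, hx⟩ := hom_central hk
    have e : hom (c * Wc u * c⁻¹ * z⁻¹) * hom z = hom c * fM u * (hom c)⁻¹ := by
      rw [← map_mul, inv_mul_cancel_right, map_mul, map_mul, map_inv]; rfl
    rcases hs with rfl | rfl
    · rw [show hom (c * Wc u * c⁻¹ * z⁻¹) = 1 from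
        Subtype.ext (LinearEquiv.ext fun x => by rw [hx, one_smul]; rfl), one_mul] at e
      rw [← hz, e, fixInv_conj]
    · exfalso
      have e1 : (hom c * fM u * (hom c)⁻¹) ^ 3 = 1 := by
        rw [conj_pow, (cubeOne_spec hu).2.1, mul_one, mul_inv_cancel]
      have happ : ∀ x, (hom (c * Wc u * c⁻¹ * z⁻¹) * hom z).1 x = - (hom z).1 x := fun x => by
        show (hom (c * Wc u * c⁻¹ * z⁻¹)).1 ((hom z).1 x) = _
        rw [hx]; exact neg_one_smul _ _
      rw [← e, pow_three] at e1
      have := congrArg (fun t : oGroup (plusQ (F := ZMod 3) 4) => t.1 (δ[ZMod 3] (Sum.inl 0))) e1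
      change (hom (c * Wc u * c⁻¹ * z⁻¹) * hom z).1 ((hom (c * Wc u * c⁻¹ * z⁻¹) * hom z).1
        ((hom (c * Wc u * c⁻¹ * z⁻¹) * hom z).1 (δ[ZMod 3] (Sum.inl 0)))) =
          δ[ZMod 3] (Sum.inl 0) at this
      rw [happ, happ, happ, map_neg, map_neg, map_neg, neg_neg] at this
      have h3 := congrArg (fun t : oGroup (plusQ (F := ZMod 3) 4) => t.1 (δ[ZMod 3] (Sum.inl 0))) hz3
      rw [pow_three] at h3
      change (hom z).1 ((hom z).1 ((hom z).1 (δ[ZMod 3] (Sum.inl 0)))) = δ[ZMod 3] (Sum.inl 0) at h3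
      rw [h3] at this
      have := congrFun this (Sum.inl 0)
      simp only [Pi.neg_apply, Pi.single_eq_same] at this
      exact absurd this (by decide)
  rcases h with h | h
  · exact main (Wc v) rfl (cubeOne_spec hv).2.1 h
  · have h3 := (cubeOne_spec hv).2.1
    refine main (Wc v * Wc v) ?_ ?_ (by rw [h, map_mul]; rfl)
    · rw [map_mul]; exact fixInv_sq h3
    · rw [map_mul, show hom (Wc v) = fM v from rfl, ← pow_two, ← pow_mul, mul_comm 2 3, pow_mul, h3,
        one_pow]

end CfsgLib.O83Three
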