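import Cfsg.Agent.O83Three.Outer
import Cfsg.Agent.O83Three.Fusion

/-! Thirteen classes in `PΩ₈⁺(3)` and seven in its extension by the symmetric group of degree three. -/

set_option autoImplicit false
set_option linter.style.haveILetI false

namespace CfsgLib.O83Three

open CfsgLib.Chev Cfsg.Lie

local instance : Fact (Nat.Prime 3) := ⟨Nat.prime_three⟩

/-- The classes of `D₄(3)`. -/
noncomputable def setting : Setting P where
  Z := Z
  rho := rho
  gam := gam
  card_Z := card_Z
  eq_of_conj := eq_of_conj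
  exists_conj_Z := exists_conj_Z
  gam_Z := gam_Z

theorem classes_POmega {A : Type*} [Group A] (e : P ≃* A) :
    ∃ Y : Fin 13 → Subgroup A, (∀ i, Nat.card (Y i) = 3) ∧
      (∀ i j, (∃ g : A, (Y i).map (MulAut.conj g).toMonoidHom = Y j) → i = j) ∧
      ∀ X : Subgroup A, Nat.card X = 3 → ∃ i, ∃ g : A, X.map (MulAut.conj g).toMonoidHom = Y i :=
  classes_iso setting e

theorem classes_extension {G : Type*} [Group G] [Finite G] (L : Subgroup G)
    (hL : L = Cfsg.generalizedFittingSubgroup G) [L.Normal]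
    (e : ↥L ≃* P) (hq : Nonempty (G ⧸ L ≃* Equiv.Perm (Fin 3))) :
    ∃ Y : Fin 7 → Subgroup G, (∀ i, Y i ≤ L ∧ Nat.card (Y i) = 3) ∧
      (∀ i j, (∃ g : G, (Y i).map (MulAut.conj g).toMonoidHom = Y j) → i = j) ∧
      ∀ X : Subgroup G, X ≤ L → Nat.card X = 3 →
        ∃ i, ∃ g : G, X.map (MulAut.conj g).toMonoidHom = Y i :=
  classes_G setting L hL e hq (fun f hf hK => exists_conj_gam f hf hK) (fun i => orbitOf.getD i 7)
    (fun k => orbRep.getD k 13) orbit_spec.1 orbit_spec.2.1 orbit_spec.2.2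

end CfsgLib.O83Three
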