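import Cfsg.Agent.O83Three.Triality

/-! Groups of outer automorphisms of order six of `D₄(3)` are conjugate to the symmetries of the diagram. -/

set_option autoImplicit false
set_option linter.style.haveILetI false

namespace CfsgLib.O83Three

open CfsgLib.Chev Cfsg.Lie

local instance : Fact (Nat.Prime 3) := ⟨Nat.prime_three⟩

/-- A subgroup of order six of the permutations of four letters fixes a letter. -/
theorem exists_fixed_point {X : Type*} [Finite X] (hX : Nat.card X = 4)
    (H : Subgroup (Equiv.Perm X)) (hH : Nat.card H = 6) : ∃ x, ∀ g ∈ H, g x = x := by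
  haveI : Finite H := Nat.finite_of_card_ne_zero (by rw [hH]; norm_num)
  obtain ⟨c, hc⟩ := exists_prime_orderOf_dvd_card' (G := H) 3 (by rw [hH]; norm_num)
  have hidx : (Subgroup.zpowers c).index = 2 := by
    have := Subgroup.card_mul_index (Subgroup.zpowers c)
    rw [Nat.card_zpowers, hc, hH] at this; omega
  haveI := Subgroup.normal_of_index_eq_two hidx
  let e : X ≃ Fin 4 := (Finite.equivFin X).trans (finCongr hX)
  let ψ : H →* Equiv.Perm (Fin 4) := e.permCongrHom.toMonoidHom.comp H.subtype
  have key : ∀ c g : Equiv.Perm (Fin 4), c * c * c = 1 → c ≠ 1 →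
      (g * c * g⁻¹ = c ∨ g * c * g⁻¹ = c * c) → ∀ x, c x = x → g x = x := by decide +kernel
  have ex : ∀ c : Equiv.Perm (Fin 4), c * c * c = 1 → ∃ x, c x = x := by decide +kernel
  have hψ : Function.Injective ψ := e.permCongrHom.injective.comp H.subtype_injective
  have h3 : ψ c * ψ c * ψ c = 1 := by
    rw [← map_mul, ← map_mul, ← map_one ψ]; congr 1
    rw [← pow_two, ← pow_succ, show 2 + 1 = orderOf c from hc.symm, pow_orderOf_eq_one]
  have h1 : ψ c ≠ 1 := fun e => by
    have : c = 1 := hψ (e.trans (map_one ψ).symm)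
    rw [this, orderOf_one] at hc; norm_num at hc
  obtain ⟨x, hx⟩ := ex _ h3
  refine ⟨e.symm x, fun g hg => ?_⟩
  have hm := (inferInstance : (Subgroup.zpowers c).Normal).conj_mem c (Subgroup.mem_zpowers c) ⟨g, hg⟩
  obtain ⟨k, hk⟩ := mem_powers_iff_mem_zpowers.mpr hm
  change c ^ k = _ at hk
  have hd : ψ ⟨g, hg⟩ * ψ c * (ψ ⟨g, hg⟩)⁻¹ = ψ c ∨
      ψ ⟨g, hg⟩ * ψ c * (ψ ⟨g, hg⟩)⁻¹ = ψ c * ψ c := by
    rw [← map_inv, ← map_mul, ← map_mul, ← hk, ← pow_mod_orderOf, hc]
    have hlt := Nat.mod_lt k (show 3 > 0 by norm_num)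
    interval_cases hr : k % 3
    · exfalso
      have hk0 : c ^ k = 1 := by rw [← pow_mod_orderOf, hc, hr, pow_zero]
      rw [hk0] at hk
      refine h1 ?_
      rw [show c = 1 from by simpa [mul_inv_eq_one] using hk.symm, map_one]
    · left; rw [pow_one]
    · right; rw [pow_two, map_mul]
  have := key _ _ h3 h1 hd x hx
  simp only [ψ, MonoidHom.coe_comp, MulEquiv.coe_toMonoidHom, Function.comp_apply,
    Equiv.permCongrHom_coe, Equiv.permCongr_apply, Subgroup.coe_subtype] at this
  exact e.injective (this.trans (e.apply_symm_apply x).symm)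

/-- The point fixed by the symmetries of the diagram. -/
noncomputable def base0 : PatD4 := ((1 : OuterD4 → ℤˣ) : PatD4)

/-- The square class character. -/
theorem exists_char : ∃ s : (ZMod 3)ˣ →* ℤˣ, ∀ u, s u = 1 ↔ IsSquare (u : ZMod 3) :=
  let ⟨s, hs, _⟩ := CfsgLib.AutPOm.exists_square_char (F := ZMod 3) (p := 3) (f := 1) le_rfl
    (by rw [Nat.card_zmod, pow_one])
  ⟨s, hs⟩

/-- The action of the outer automorphisms on four points. -/
noncomputable def act : Cfsg.Out P →* Equiv.Perm PatD4 :=
  (MonoidHom.fst _ _).comp (thetaD4 exists_char.choose_spec)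

theorem ringAut_eq (σ τ : RingAut (ZMod 3)) : σ = τ :=
  RingEquiv.ext fun x => by
    obtain ⟨k, rfl⟩ : ∃ k : ℕ, (k : ZMod 3) = x := ⟨x.val, ZMod.natCast_rightInverse x⟩
    rw [map_natCast, map_natCast]

theorem act_injective : Function.Injective act := fun a b e =>
  thetaD4_pattern_injective exists_char.choose_spec (Prod.ext e (ringAut_eq _ _))

theorem card_PatD4' : Nat.card PatD4 = 4 := card_PatD4

theorem card_perm_pat : Nat.card (Equiv.Perm PatD4) = 24 := by
  haveI : Finite PatD4 := Nat.finite_of_card_ne_zero (by rw [card_PatD4]; norm_num)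
  rw [Nat.card_perm, card_PatD4]; rfl

theorem card_out_gen {F : Type*} [Field F] [Finite F] (hF : Nat.card F = 3 ^ 1) :
    Nat.card (Cfsg.Out ↥(chevD4.group F)) = 24 := by
  obtain ⟨e⟩ := CfsgLib.OrthElem.nonempty_D4 (F := F)
  rw [Nat.card_congr (CfsgLib.AutPOm.outCongr e).toEquiv,
    CfsgLib.AutPOm.card_out_plus_four (p := 3) (f := 1) le_rfl hF]
  norm_num

theorem card_out : Nat.card (Cfsg.Out P) = 24 :=
  card_out_gen (F := ZMod 3) (by rw [Nat.card_zmod, pow_one])

theorem act_surjective : Function.Surjective act := by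
  haveI : Finite (Cfsg.Out P) := Nat.finite_of_card_ne_zero (by rw [card_out]; norm_num)
  exact ((Nat.bijective_iff_injective_and_card _).mpr
    ⟨act_injective, card_out.trans card_perm_pat.symm⟩).2

theorem act_gam (p : Fin 6) :
    act (gam p : Cfsg.Out P) = actPattern 1 (outerPerm (piPerm p) (piPerm_mid p)) := by
  obtain ⟨χ, hc, hu⟩ := gam_spec p
  obtain ⟨M', χ', π', σ', h', e, hθ⟩ := thetaD4_spec exists_char.choose_spec (gam p : Cfsg.Out P)
  rw [act, MonoidHom.comp_apply, hθ, partsD4_congr exists_char.choose_spec h' hc e]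
  show actPattern _ _ = _
  refine congrArg (fun e => actPattern e _) (funext fun j => ?_)
  rw [hu, map_one]; rfl

theorem act_gam_base (p : Fin 6) : act (gam p : Cfsg.Out P) base0 = base0 := by
  rw [act_gam, base0, actPattern_mk, map_one, mul_one]

theorem act_gam_injective : Function.Injective fun p => act (gam p : Cfsg.Out P) := by
  intro p q e
  simp only [act_gam] at e
  refine piPerm_injective (Equiv.ext fun i => ?_)
  have h : outerPerm (piPerm p) (piPerm_mid p) = outerPerm (piPerm q) (piPerm_mid q) := by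
    have e' : actPattern 1 ((outerPerm (piPerm q) (piPerm_mid q))⁻¹ *
        outerPerm (piPerm p) (piPerm_mid p)) = 1 := by
      have h2 : ∀ ρ ρ' : Equiv.Perm OuterD4,
          actPattern 1 (ρ * ρ') = actPattern 1 ρ * actPattern 1 ρ' := fun ρ ρ' => by
        rw [← actPattern_mul, map_one, mul_one]
      rw [h2, e, ← h2, inv_mul_cancel]
      refine Equiv.ext fun x => ?_
      induction x using QuotientGroup.induction_on with
      | H y => rw [actPattern_mk, one_mul]; rfl
    exact (inv_mul_eq_one.mp (actPattern_eq_one e').2).symm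
  by_cases hi : i = midD4
  · rw [hi, piPerm_mid, piPerm_mid]
  · exact congrArg Subtype.val (Equiv.ext_iff.mp h ⟨i, hi⟩)

theorem card_stab {X : Type*} [Finite X] (hX : Nat.card X = 4) (x : X) :
    Nat.card {σ : Equiv.Perm X // σ x = x} = 6 := by
  let e : X ≃ Fin 4 := (Finite.equivFin X).trans (finCongr hX)
  have h : ∀ a : Fin 4, (Finset.univ.filter fun σ : Equiv.Perm (Fin 4) => σ a = a).card = 6 := by
    decide +kernel
  rw [← h (e x), ← Nat.card_eq_finsetCard]
  refine Nat.card_congr (e.permCongr.subtypeEquiv fun σ => ?_)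
  simp only [Finset.mem_filter, Finset.mem_univ, true_and, Equiv.permCongr_apply,
    Equiv.symm_apply_apply]
  exact ⟨fun h => by rw [h], fun h => e.injective h⟩

/-- An outer automorphism fixing the base point comes from the diagram. -/
theorem exists_gam {o : Cfsg.Out P} (h : act o base0 = base0) : ∃ p, (gam p : Cfsg.Out P) = o := by
  haveI : Finite PatD4 := Nat.finite_of_card_ne_zero (by rw [card_PatD4]; norm_num)
  let f : Fin 6 → {σ : Equiv.Perm PatD4 // σ base0 = base0} :=
    fun p => ⟨act (gam p : Cfsg.Out P), act_gam_base p⟩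
  have hf : Function.Bijective f := (Nat.bijective_iff_injective_and_card _).mpr
    ⟨fun p q e => act_gam_injective (congrArg Subtype.val e),
      by rw [card_stab card_PatD4, Nat.card_fin]⟩
  obtain ⟨p, hp⟩ := hf.2 ⟨act o, h⟩
  exact ⟨p, act_injective (congrArg Subtype.val hp)⟩

/-- A group of six outer automorphisms is conjugate to the symmetries of the diagram. -/
theorem exists_conj_gam {K : Type*} [Group K] (f : K →* Cfsg.Out P) (hf : Function.Injective f)
    (hK : Nat.card K = 6) :
    ∃ o : Cfsg.Out P, (∀ k, ∃ p, (gam p : Cfsg.Out P) = o⁻¹ * f k * o) ∧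
      ∀ p, ∃ k, (gam p : Cfsg.Out P) = o⁻¹ * f k * o := by
  haveI : Finite PatD4 := Nat.finite_of_card_ne_zero (by rw [card_PatD4]; norm_num)
  obtain ⟨x, hx⟩ := exists_fixed_point card_PatD4 (act.comp f).range (by
    rw [← Nat.card_congr (MonoidHom.ofInjective (f := act.comp f)
      (act_injective.comp hf)).toEquiv, hK])
  obtain ⟨o, ho⟩ := act_surjective (Equiv.swap base0 x)
  have hb : ∀ k, act (o⁻¹ * f k * o) base0 = base0 := fun k => by
    rw [map_mul, map_mul, map_inv, ho, Equiv.Perm.mul_apply, Equiv.Perm.mul_apply,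
      Equiv.swap_apply_left, show act (f k) x = x from hx _ ⟨k, rfl⟩, Equiv.Perm.inv_def, Equiv.symm_swap,
      Equiv.swap_apply_right]
  refine ⟨o, fun k => exists_gam (hb k), ?_⟩
  choose p hp using fun k => exists_gam (hb k)
  haveI : Finite K := Nat.finite_of_card_ne_zero (by rw [hK]; norm_num)
  have hpb : Function.Bijective p := (Nat.bijective_iff_injective_and_card _).mpr
    ⟨fun a b e => hf (mul_left_cancel (mul_right_cancel ((hp a).symm.trans (by rw [e, hp b])))),
      by rw [hK, Nat.card_fin]⟩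
  intro q
  obtain ⟨k, rfl⟩ := hpb.2 q
  exact ⟨k, hp k⟩

end CfsgLib.O83Three
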