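import Cfsg.Agent.O83Three.FixDefs

/-! The checks on the certificates for the symmetries of the diagram. -/

set_option autoImplicit false

namespace CfsgLib.O83Three

/-- The node of a simple positive root. -/
def nodeOf (r : Nat) : Nat :=
  bif Nat.beq r 18 then 0 else bif Nat.beq r 14 then 1 else bif Nat.beq r 13 then 2 else 3

/-- A word in simple letters moved by a symmetry of the diagram. -/
def mapW (p : Nat) (w : List Nat) : List Nat :=
  w.map fun c => 3 * [18, 14, 13, 12].getD ((perms.getD p []).getD (nodeOf (c / 3)) 4) 24 + c % 3

/-- The image of a representative under a symmetry. -/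
def rho (p i : Nat) : Nat := triSrc.getD (13 * p + i) 26 / 2

/-- The letters are simple positive root letters. -/
def simpleW (w : List Nat) : Bool :=
  w.all fun c => (Nat.beq (c / 3) 18 || Nat.beq (c / 3) 14 || Nat.beq (c / 3) 13 || Nat.beq (c / 3) 12)
    && !(Nat.beq (c % 3) 0)

/-- A word of order three up to sign. -/
def cubeOne (w : List Nat) : Bool := sameB (w ++ w ++ w) []

/-- The checks for one symmetry and one representative. -/
def chkTri (p i : Nat) : Bool :=
  okW (triPath.getD (13 * p + i) []) && Nat.blt (triSrc.getD (13 * p + i) 26) 26 &&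
    cubeOne (mapW p (repS.getD i [])) &&
    sameB (triPath.getD (13 * p + i) [] ++ mapW p (repS.getD i []) ++ iw (triPath.getD (13 * p + i) []))
      (repPow (triSrc.getD (13 * p + i) 26))

/-- The checks for one representative. -/
def chkRep (i : Nat) : Bool :=
  simpleW (repS.getD i []) && cubeOne (repW.getD i []) && sameB (repW.getD i []) (repS.getD i []) &&
    !(plusMinus allPos (ev (repW.getD i []) one)) && Nat.beq (rho 0 i) i

/-- The invariant of a class. -/
def inv6 (i : Nat) : List (Nat × Nat) :=
  [fixTable.getD (rho 0 i) (0, 0), fixTable.getD (rho 1 i) (0, 0), fixTable.getD (rho 2 i) (0, 0),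
    fixTable.getD (rho 3 i) (0, 0), fixTable.getD (rho 4 i) (0, 0), fixTable.getD (rho 5 i) (0, 0)]

/-- The classes chosen in the orbits. -/
def orbRep : List Nat := [0, 1, 2, 6, 10, 11, 12]

end CfsgLib.O83Three
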