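import Cfsg.Agent.O83Three.Invariant
import Cfsg.Agent.ChevAut.OutD4
import Cfsg.Agent.AutPOm.EightOut

/-! The thirteen classes and their fusion under the symmetries of the diagram. -/

set_option autoImplicit false
set_option linter.style.haveILetI false

namespace CfsgLib.O83Three

open CfsgLib.Chev Cfsg.Lie

local instance : Fact (Nat.Prime 3) := ⟨Nat.prime_three⟩

theorem finite_P : Finite P := Nat.finite_of_card_ne_zero (by rw [card_P]; norm_num)

/-- The symmetries of the diagram. -/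
def piPerm (p : Fin 6) : Equiv.Perm (Fin chevD4.rank) :=
  let a : Fin chevD4.rank := ⟨0, by decide⟩
  let c : Fin chevD4.rank := ⟨2, by decide⟩
  let d : Fin chevD4.rank := ⟨3, by decide⟩
  [1, Equiv.swap c d, Equiv.swap a c, Equiv.swap a c * Equiv.swap c d,
    Equiv.swap a d * Equiv.swap c d, Equiv.swap a d].getD p 1

theorem piPerm_symm : ∀ p, chevD4.IsDiagramSymmetry (piPerm p) := by
  unfold ChevalleyDatum.IsDiagramSymmetry
  decide +kernel

theorem piPerm_mid : ∀ p, piPerm p midD4 = midD4 := fun p => symm_fix_mid _ (piPerm_symm p)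

theorem piPerm_injective : Function.Injective piPerm := by
  unfold Function.Injective
  decide +kernel

theorem piPerm_list : ∀ p : Fin 6, ∀ i : Fin chevD4.rank,
    chevD4.simple (piPerm p i) = [18, 14, 13, 12].getD ((perms.getD p []).getD i 4) 24 := by
  decide +kernel

/-- An automorphism inducing a symmetry of the diagram on the simple root elements. -/
def IsGraph (p : Fin 6) (M : MulAut P) : Prop :=
  ∃ χ, CoordsD4 M χ (piPerm p) (RingEquiv.refl (ZMod 3)) ∧ ∀ j : Fin chevD4.rank, χ (chevD4.simple j) = 1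

theorem exists_graph (p : Fin 6) : ∃ M : MulAut P, IsGraph p M := by
  have hπ : piPerm p ∈ graphPerms chevD4 (ZMod 3) := by
    rw [graphPerms_D4]; exact piPerm_symm p
  obtain ⟨N, χ, hχ, hu, hN⟩ :=
    good_D4.exists_isStd_of mem_D4 coef_D4 (fun _ => 1) hπ (RingEquiv.refl (ZMod 3))
  exact ⟨N, χ, ⟨hχ, piPerm_mid p, hN⟩, hu⟩

/-- The chosen automorphisms. -/
noncomputable def gam (p : Fin 6) : MulAut P := (exists_graph p).choose

theorem gam_spec (p : Fin 6) : IsGraph p (gam p) := (exists_graph p).choose_spec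

theorem coe_W_letter {r k : ℕ} (hk : k < 3) :
    (W [3 * r + k] : GL chevD4.Idx (ZMod 3)) = good_D4.full.x r (k : ZMod 3) := by
  let S := good_D4.scData (good_D4.scθ (ZMod 3)) fun r t hr => good_D4.coe_scθ hr t
  show S.θ (Wc [3 * r + k]) = _
  rw [Wc, List.map_singleton, List.prod_singleton, show (3 * r + k) / 3 = r by omega,
    show (3 * r + k) % 3 = k by omega]
  exact S.θ_x r (k : ZMod 3)

theorem gam_W (p : Fin 6) : ∀ w : List ℕ, simpleW w = true → gam p (W w) = W (mapW p w) := by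
  intro w
  induction w with
  | nil => intro _; simp [mapW, W_nil]
  | cons c w ih =>
    intro h
    simp only [simpleW, List.all_cons, Bool.and_eq_true, Bool.or_eq_true, Nat.beq_eq,
      Bool.not_eq_true'] at h
    obtain ⟨⟨hc, hc0⟩, hw⟩ := h
    have hs : mapW p (c :: w) = [3 * [18, 14, 13, 12].getD ((perms.getD p []).getD (nodeOf (c / 3)) 4) 24
        + c % 3] ++ mapW p w := rfl
    rw [hs, W_append, show c :: w = [c] ++ w from rfl, W_append, map_mul]
    refine congrArg₂ (· * ·) ?_ (ih (by simpa [simpleW, List.all_eq_true] using hw))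
    obtain ⟨i, hi, hn⟩ : ∃ i : Fin chevD4.rank, chevD4.simple i = c / 3 ∧ (i : ℕ) = nodeOf (c / 3) := by
      have hall : ∀ r, r = 18 ∨ r = 14 ∨ r = 13 ∨ r = 12 →
          ∃ i : Fin chevD4.rank, chevD4.simple i = r ∧ (i : ℕ) = nodeOf r := by
        rintro r (rfl | rfl | rfl | rfl) <;> decide +kernel
      exact hall _ (by tauto)
    rw [← hn, ← piPerm_list]
    refine Subtype.ext ?_
    obtain ⟨χ, ⟨-, -, hstd⟩, hu⟩ := gam_spec p
    rw [coe_W_letter (Nat.mod_lt _ (by norm_num)), ← Tab.gA_coe,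
      show (W [c] : GL chevD4.Idx (ZMod 3)) = good_D4.full.x (c / 3) ((c % 3 : ℕ) : ZMod 3) by
        rw [← coe_W_letter (Nat.mod_lt c (by norm_num)), Nat.div_add_mod],
      ← hi, hstd.2.pos]
    simp [expAt_D4, hu]

/-- The representatives of the classes. -/
noncomputable def R (i : ℕ) : P := W (repW.getD i [])

theorem chkRep_spec {i : ℕ} (hi : i < 13) : simpleW (repS.getD i []) = true ∧
    cubeOne (repW.getD i []) = true ∧ R i = W (repS.getD i []) ∧ R i ≠ 1 ∧ rho 0 i = i := by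
  have h := allN_spec rep_ok i hi
  simp only [chkRep, Bool.and_eq_true, Nat.beq_eq, Bool.not_eq_true'] at h
  obtain ⟨⟨⟨⟨h1, h2⟩, h3⟩, h4⟩, h5⟩ := h
  refine ⟨h1, h2, sameB_spec h3, fun e => ?_, h5⟩
  have := vd_one_or (cubeOne_spec h2).1 (v := []) rfl (by rw [W_nil]; exact e) allPos_lt
    (by decide +kernel)
  rw [h4] at this
  exact Bool.noConfusion this

theorem R_cube {i : ℕ} (hi : i < 13) : R i ^ 3 = 1 := (cubeOne_spec (chkRep_spec hi).2.1).2.2

theorem repPow_W (s : ℕ) : W (repPow s) = R (s / 2) ∨ W (repPow s) = R (s / 2) * R (s / 2) := by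
  unfold repPow
  cases Nat.beq (s % 2) 0
  · right; rw [cond_false, W_append]; rfl
  · left; rw [cond_true]; rfl

theorem repPow_mem (s : ℕ) : W (repPow s) ∈ Subgroup.zpowers (R (s / 2)) := by
  rcases repPow_W s with h | h <;> rw [h]
  · exact Subgroup.mem_zpowers _
  · exact mul_mem (Subgroup.mem_zpowers _) (Subgroup.mem_zpowers _)

theorem tri_spec (p : Fin 6) {i : ℕ} (hi : i < 13) :
    cubeOne (mapW p (repS.getD i [])) = true ∧ rho p i < 13 ∧
      ∃ g : P, g * gam p (R i) * g⁻¹ = W (repPow (triSrc.getD (13 * p + i) 26)) := by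
  have h := allN_spec (allN_spec tri_ok p p.isLt) i hi
  simp only [chkTri, Bool.and_eq_true, Nat.blt_eq] at h
  obtain ⟨⟨⟨h1, h2⟩, h3⟩, h4⟩ := h
  refine ⟨h3, by unfold rho; omega, W (triPath.getD (13 * p + i) []), ?_⟩
  rw [(chkRep_spec hi).2.2.1, gam_W p _ (chkRep_spec hi).1]
  exact W_conj h1 h4

theorem fixInv_mapW (p : Fin 6) {i : ℕ} (hi : i < 13) :
    fixInv (fM (mapW p (repS.getD i []))) = fixTable.getD (rho p i) (0, 0) := by
  obtain ⟨h3, hρ, g, hg⟩ := tri_spec p hi
  rw [← fixInv_rep hρ]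
  rw [(chkRep_spec hi).2.2.1, gam_W p _ (chkRep_spec hi).1] at hg
  refine fixInv_of_conj h3 (chkRep_spec hρ).2.1 (g := g) ?_
  rw [hg]
  exact repPow_W _

theorem eq_or_sq {x : P} {i : ℕ} (hi : i < 13) (hx : x ∈ Subgroup.zpowers (R i)) (h1 : x ≠ 1) :
    x = R i ∨ x = R i * R i := by
  haveI := finite_P
  obtain ⟨k, rfl⟩ := (mem_powers_iff_mem_zpowers).mpr hx
  have e : R i ^ k = R i ^ (k % 3) := by
    conv_lhs => rw [← Nat.div_add_mod k 3, pow_add, pow_mul, R_cube hi, one_pow, one_mul]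
  show R i ^ k = _ ∨ R i ^ k = _
  change R i ^ k ≠ 1 at h1
  rw [e] at h1 ⊢
  have := Nat.mod_lt k (show 3 > 0 by norm_num)
  interval_cases k % 3
  · exact absurd (pow_zero _) h1
  · exact Or.inl (pow_one _)
  · exact Or.inr (pow_two _)

/-- The subgroup of a representative. -/
noncomputable def Z (i : ℕ) : Subgroup P := Subgroup.zpowers (R i)

theorem card_Z {i : ℕ} (hi : i < 13) : Nat.card (Z i) = 3 := by
  rw [Z, Nat.card_zpowers, orderOf_eq_prime (R_cube hi) (chkRep_spec hi).2.2.2.1]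

theorem eq_of_conj {i j : ℕ} (hi : i < 13) (hj : j < 13) (g : P)
    (h : (Z i).map (MulAut.conj g).toMonoidHom = Z j) : i = j := by
  have hm : g * R i * g⁻¹ ∈ Subgroup.zpowers (R j) := by
    rw [← Z, ← h]; exact ⟨R i, Subgroup.mem_zpowers _, rfl⟩
  have hne : g * R i * g⁻¹ ≠ 1 := fun e => (chkRep_spec hi).2.2.2.1 (by
    simpa [mul_inv_eq_one] using e)
  have key : ∀ p : Fin 6, fixTable.getD (rho p i) (0, 0) = fixTable.getD (rho p j) (0, 0) := by
    intro p
    rw [← fixInv_mapW p hi, ← fixInv_mapW p hj]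
    have e := eq_or_sq hj hm hne
    refine fixInv_of_conj (tri_spec p hi).1 (tri_spec p hj).1 (g := gam p g) ?_
    rw [← gam_W p _ (chkRep_spec hi).1, ← gam_W p _ (chkRep_spec hj).1, ← (chkRep_spec hi).2.2.1,
      ← (chkRep_spec hj).2.2.1, ← map_inv, ← map_mul, ← map_mul, ← map_mul]
    exact e.imp (congrArg _) (congrArg _)
  refine inv6_injective i hi j hj ?_
  unfold inv6
  have key' : ∀ p : ℕ, p < 6 → fixTable.getD (rho p i) (0, 0) = fixTable.getD (rho p j) (0, 0) :=
    fun p hp => key ⟨p, hp⟩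
  rw [key' 0 (by norm_num), key' 1 (by norm_num), key' 2 (by norm_num), key' 3 (by norm_num),
    key' 4 (by norm_num), key' 5 (by norm_num)]

theorem exists_conj_Z (X : Subgroup P) (hX : Nat.card X = 3) :
    ∃ i < 13, ∃ g : P, X.map (MulAut.conj g).toMonoidHom = Z i := by
  haveI := finite_P
  haveI : Nontrivial X := Finite.one_lt_card_iff_nontrivial.mp (by omega)
  obtain ⟨⟨x, hx⟩, hx1⟩ := exists_ne (1 : X)
  have hx3 : x ^ 3 = 1 := by
    have := pow_card_eq_one' (G := X) (x := ⟨x, hx⟩)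
    rw [hX, Subtype.ext_iff] at this
    rw [SubmonoidClass.coe_pow, OneMemClass.coe_one] at this
    exact this
  have hx0 : x ≠ 1 := fun e => hx1 (Subtype.ext e)
  rcases covered hx3 with h | ⟨s, hs, g, hg⟩
  · exact absurd h hx0
  refine ⟨s / 2, by omega, g, ?_⟩
  have hXz : X = Subgroup.zpowers x := (Subgroup.eq_of_le_of_card_ge
    (Subgroup.zpowers_le.mpr hx) (by rw [hX, Nat.card_zpowers, orderOf_eq_prime hx3 hx0])).symm
  rw [hXz, MonoidHom.map_zpowers]
  show Subgroup.zpowers (g * x * g⁻¹) = _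
  refine Subgroup.eq_of_le_of_card_ge (Subgroup.zpowers_le.mpr (hg ▸ repPow_mem s)) ?_
  rw [card_Z (by omega), Nat.card_zpowers, orderOf_eq_prime (by rw [conj_pow, hx3, mul_one,
    mul_inv_cancel]) (fun e => hx0 (by simpa [mul_inv_eq_one] using e))]

theorem gam_Z (p : Fin 6) {i : ℕ} (hi : i < 13) :
    rho p i < 13 ∧ ∃ g : P, ((Z i).map (gam p).toMonoidHom).map (MulAut.conj g).toMonoidHom =
      Z (rho p i) := by
  haveI := finite_P
  obtain ⟨-, hρ, g, hg⟩ := tri_spec p hi
  refine ⟨hρ, g, ?_⟩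
  rw [Z, MonoidHom.map_zpowers, MonoidHom.map_zpowers]
  show Subgroup.zpowers (g * gam p (R i) * g⁻¹) = _
  refine Subgroup.eq_of_le_of_card_ge (Subgroup.zpowers_le.mpr ?_) ?_
  · rw [hg]; exact repPow_mem _
  · rw [card_Z hρ, Nat.card_zpowers, orderOf_eq_prime (by
      rw [conj_pow, ← map_pow, R_cube hi, map_one, mul_one, mul_inv_cancel]) (fun e =>
        (chkRep_spec hi).2.2.2.1 (by
          have e' : gam p (R i) = 1 := by simpa [mul_inv_eq_one] using e
          exact (gam p).map_eq_one_iff.mp e'))]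

end CfsgLib.O83Three
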